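import Cfsg.Prelude.Def_CaseTheorems
import Cfsg.Agent.S0205
import Cfsg.Agent.PLocal.Cores

/-!
# Small lemmas for the classification of pyramidal groups
-/

set_option autoImplicit false
set_option linter.unusedSectionVars false
set_option linter.style.haveILetI false

namespace CfsgLib.Pyramidal

open Subgroup

variable {G : Type*} [Group G] [Finite G]

/-- An element normalising a Sylow 2-subgroup has an odd power in it. -/
theorem exists_odd_pow_mem (S : Sylow 2 G) {x : G}
    (hx : x ∈ normalizer ((S : Subgroup G) : Set G)) :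
    ∃ m, Odd m ∧ x ^ m ∈ (S : Subgroup G) := by
  haveI : Fact (Nat.Prime 2) := ⟨Nat.prime_two⟩
  set N := normalizer ((S : Subgroup G) : Set G)
  haveI : ((S : Subgroup G).subgroupOf N).Normal := normal_in_normalizer
  refine ⟨((S : Subgroup G).subgroupOf N).index, ?_, ?_⟩
  · rw [← Nat.not_even_iff_odd, even_iff_two_dvd]
    intro h
    refine S.not_dvd_index (h.trans ⟨N.index, ?_⟩)
    exact (relIndex_mul_index le_normalizer).symm
  · exact mem_subgroupOf.1 (pow_index_mem ((S : Subgroup G).subgroupOf N) ⟨x, hx⟩)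

/-- An endomorphism of odd period of an abelian 2-group fixing all involutions is the identity. -/
theorem eq_self_of_fix_involutions {D : Type*} [Group D] (hcomm : ∀ a b : D, a * b = b * a)
    (hD : IsPGroup 2 D) (f : D →* D) {m : ℕ} (hm : Odd m) (hit : ∀ d, f^[m] d = d)
    (h2 : ∀ d, d * d = 1 → f d = d) (d : D) : f d = d := by
  suffices ∀ k, ∀ d : D, d ^ 2 ^ k = 1 → f d = d by
    obtain ⟨k, hk⟩ := hD d
    exact this k d hk
  intro k
  induction k with
  | zero => exact fun d hk => by rw [pow_zero, pow_one] at hk; rw [hk, map_one]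
  | succ k ih =>
    intro d hk
    have hsq : f (d * d) = d * d := ih _ (by rw [← pow_two, ← pow_mul, ← pow_succ']; exact hk)
    set e := f d * d⁻¹ with he
    have hee : e * e = 1 := by
      have hc : Commute (f d) d⁻¹ := hcomm _ _
      rw [he, hc.symm.mul_mul_mul_comm, ← map_mul, hsq]
      group
    have hpow : ∀ n : ℕ, f^[n] d = e ^ n * d := by
      intro n
      induction n with
      | zero => simp
      | succ n ihn =>
        rw [Function.iterate_succ_apply', ihn, map_mul, map_pow, h2 e hee, pow_succ, mul_assoc,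
          he, inv_mul_cancel_right]
    obtain ⟨j, rfl⟩ := hm
    have h1 := hpow (2 * j + 1)
    rw [hit, pow_succ, pow_mul, pow_two, hee, one_pow, one_mul, he, inv_mul_cancel_right] at h1
    exact h1.symm

/-- Burnside transfer with the odd order theorem. -/
theorem of_normalizer_le_centralizer (S : Sylow 2 G)
    (h : normalizer ((S : Subgroup G) : Set G) ≤ centralizer ((S : Subgroup G) : Set G)) :
    Cfsg.oddCore G ⊔ (S : Subgroup G) = ⊤ ∧ Group.IsSolvable G := by
  haveI : Fact (Nat.Prime 2) := ⟨Nat.prime_two⟩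
  set τ := MonoidHom.transferSylow S h
  have hodd : Odd (Nat.card τ.ker) := by
    rw [← Nat.not_even_iff_odd, even_iff_two_dvd]
    exact MonoidHom.not_dvd_card_ker_transferSylow S h
  refine ⟨top_le_iff.1 ?_, ?_⟩
  · rw [← (MonoidHom.ker_transferSylow_isComplement' S h).sup_eq_top]
    exact sup_le_sup_right (PLocal.le_pPrimeCore (Nat.coprime_two_right.2 hodd)) _
  · haveI : Group.IsSolvable τ.ker := Cfsg.Agent.S0205.result hodd
    haveI : Group.IsNilpotent ↥(S : Subgroup G) := S.isPGroup'.isNilpotent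
    exact Group.isSolvable_of_ker_le_range τ.ker.subtype τ (by rw [range_subtype])

/-- With trivial odd core, a normal subgroup with central Sylow 2-subgroup is a 2-group. -/
theorem isPGroup_of_central (hO : Cfsg.oddCore G = ⊥) {K : Subgroup G} [K.Normal] (S : Sylow 2 K)
    (hS : (S : Subgroup K) ≤ center K) : IsPGroup 2 K := by
  have h : normalizer ((S : Subgroup K) : Set K) ≤ centralizer ((S : Subgroup K) : Set K) :=
    fun x _ s hs => ((mem_center_iff.1 (hS hs)) x).symm
  obtain ⟨htop, -⟩ := of_normalizer_le_centralizer S h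
  have hbot : Cfsg.oddCore K = ⊥ := by
    have := (PLocal.pPrimeCore_map_subtype_le (p := 2) K).trans_eq hO
    rwa [le_bot_iff, map_eq_bot_iff_of_injective _ K.subtype_injective] at this
  rw [hbot, bot_sup_eq] at htop
  exact fun x => by
    obtain ⟨k, hk⟩ := S.isPGroup' ⟨x, htop ▸ mem_top x⟩
    exact ⟨k, congrArg Subtype.val hk⟩

/-- An element commuting with two involutions, unless they are conjugate. -/
theorem exists_commuting_involution {a b : G} (ha : a * a = 1) (hb : b * b = 1)
    (hab : ¬ IsConj a b) :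
    ∃ z, z ≠ 1 ∧ z * z = 1 ∧ a * z = z * a ∧ b * z = z * b := by
  set x := a * b with hx
  have hainv : a⁻¹ = a := inv_eq_of_mul_eq_one_right ha
  have hbinv : b⁻¹ = b := inv_eq_of_mul_eq_one_right hb
  have hax : a * x * a⁻¹ = x⁻¹ := by
    rw [hx, mul_inv_rev, hainv, hbinv, ← mul_assoc a a b, ha, one_mul]
  have hbx : b * x * b⁻¹ = x⁻¹ := by
    rw [hx, mul_inv_rev, hbinv, hainv, mul_assoc b (a * b) b, mul_assoc a b b, hb, mul_one]
  rcases Nat.even_or_odd (orderOf x) with ⟨j, hj⟩ | ⟨j, hj⟩
  · have hpos : 0 < orderOf x := orderOf_pos x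
    have hz2 : x ^ j * x ^ j = 1 := by rw [← pow_add, ← hj, pow_orderOf_eq_one]
    refine ⟨x ^ j, pow_ne_one_of_lt_orderOf (by omega) (by omega), hz2, ?_, ?_⟩
    · have h : a * x ^ j * a⁻¹ = x ^ j := by
        rw [← conj_pow, hax, inv_pow, inv_eq_of_mul_eq_one_right hz2]
      exact mul_inv_eq_iff_eq_mul.1 h
    · have h : b * x ^ j * b⁻¹ = x ^ j := by
        rw [← conj_pow, hbx, inv_pow, inv_eq_of_mul_eq_one_right hz2]
      exact mul_inv_eq_iff_eq_mul.1 h
  · refine absurd (isConj_iff.2 ⟨x ^ j, ?_⟩ : IsConj a b) hab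
    have h1 : x ^ (2 * j) * x = 1 := by rw [← pow_succ, ← hj, pow_orderOf_eq_one]
    have h3 : a * (x ^ j)⁻¹ = x ^ j * a := by
      have h : a * (x ^ j)⁻¹ * a⁻¹ = x ^ j := by
        rw [← conj_inv, ← conj_pow, hax, inv_pow, inv_inv]
      exact mul_inv_eq_iff_eq_mul.1 h
    rw [mul_assoc, h3, ← mul_assoc, ← pow_add, ← two_mul, eq_inv_of_mul_eq_one_left h1, hx,
      mul_inv_rev, hainv, hbinv, mul_assoc, ha, mul_one]

end CfsgLib.Pyramidal
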