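import Cfsg.Agent.Pyramidal.Basics

/-!
# Central involutions and an abelian Sylow 2-subgroup
-/

set_option autoImplicit false
set_option linter.unusedSectionVars false
set_option linter.style.haveILetI false

namespace CfsgLib.Pyramidal

open Subgroup

variable {C : Type*} [Group C] [Finite C]

/-- All involutions central and an abelian Sylow 2-subgroup imply solvability. -/
theorem isSolvable_of_abelian_sylow (hinv : ∀ x : C, x * x = 1 → x ∈ center C) (S : Sylow 2 C)
    (hab : ∀ a b : C, a ∈ (S : Subgroup C) → b ∈ (S : Subgroup C) → a * b = b * a) :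
    Group.IsSolvable C := by
  refine (of_normalizer_le_centralizer S fun x hx => ?_).2
  obtain ⟨m, hm, hxm⟩ := exists_odd_pow_mem S hx
  let f : ↥(S : Subgroup C) →* ↥(S : Subgroup C) :=
    { toFun := fun d => ⟨x * d * x⁻¹, (Subgroup.mem_normalizer_iff.1 hx d).1 d.2⟩
      map_one' := Subtype.ext (by simp)
      map_mul' := fun a b => Subtype.ext (by simp [mul_assoc]) }
  have hval : ∀ (k : ℕ) (d : ↥(S : Subgroup C)), ((f^[k] d : ↥(S : Subgroup C)) : C) =
      x ^ k * d * (x ^ k)⁻¹ := by
    intro k
    induction k with
    | zero => intro d; simp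
    | succ k ih =>
      intro d
      rw [Function.iterate_succ_apply']
      show x * (f^[k] d : ↥(S : Subgroup C)) * x⁻¹ = _
      rw [ih, pow_succ']
      group
  intro d hd
  have h := eq_self_of_fix_involutions (fun a b => Subtype.ext (hab a b a.2 b.2)) S.isPGroup' f hm
    (fun d => Subtype.ext (by
      rw [hval, hab _ d hxm d.2, mul_inv_cancel_right]))
    (fun d hd2 => Subtype.ext (by
      show x * d * x⁻¹ = d
      rw [(mem_center_iff.1 (hinv d (congrArg Subtype.val hd2)) x), mul_inv_cancel_right]))
    ⟨d, hd⟩
  have h' : x * d * x⁻¹ = d := congrArg Subtype.val h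
  exact (mul_inv_eq_iff_eq_mul.1 h').symm

end CfsgLib.Pyramidal
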