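import Cfsg.Agent.Pyramidal.FormThree

/-!
# No extension of an abelian 2-group of rank three by `GL₃(2)` with all involutions at the bottom

The module part: an abelian 2-group `P` whose socle is the natural module of `GL₃(2)`, with an
action of `GL₃(2)`, has no element `s` with the properties that the square of a lift of the
involution `pX` would need.
-/

set_option autoImplicit false
set_option linter.unusedSectionVars false
set_option linter.style.haveILetI false

namespace CfsgLib.Pyramidal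

open Matrix

/-- Swaps the last two coordinates. -/
def pX : M3ˣ := ⟨!![1, 0, 0; 0, 0, 1; 0, 1, 0], !![1, 0, 0; 0, 0, 1; 0, 1, 0], by decide, by decide⟩

/-- A square root of `pX`. -/
def pU : M3ˣ := ⟨!![1, 1, 1; 1, 1, 0; 1, 0, 1], !![1, 1, 1; 1, 0, 1; 1, 1, 0], by decide, by decide⟩

theorem eq_one_of_ne_zero' : ∀ r : ZMod 2, r ≠ 0 → r = 1 := by decide

theorem exists_unit_of_ne_zero {v : V3} (hv : v ≠ 0) : ∃ A : M3ˣ, (A : M3) *ᵥ e0 = v := by
  by_cases he : v = e0
  · exact ⟨1, by rw [he, Units.val_one, Matrix.one_mulVec]⟩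
  · obtain ⟨A, hA, -⟩ := exists_unit_pair hv (b := e0) (by decide) he
    exact ⟨A, hA⟩

section Ring

variable {a : ℕ}

/-- Reduction modulo two. -/
def red (a : ℕ) : ZMod (2 ^ (a + 1)) →+* ZMod 2 :=
  ZMod.castHom (dvd_pow_self 2 (Nat.succ_ne_zero a)) (ZMod 2)

theorem red_eq_zero {r : ZMod (2 ^ (a + 1))} (h : red a r = 0) : ∃ s, r = 2 * s := by
  rw [← ZMod.natCast_zmod_val r, map_natCast, ZMod.natCast_eq_zero_iff_even] at h
  obtain ⟨k, hk⟩ := h
  exact ⟨k, by rw [← ZMod.natCast_zmod_val r, hk]; push_cast; ring⟩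

theorem red_two_mul (r : ZMod (2 ^ (a + 1))) : red a (2 * r) = 0 := by
  rw [map_mul, map_ofNat, show (OfNat.ofNat 2 : ZMod 2) = 0 by decide, zero_mul]

theorem half_two : (2 : ZMod (2 ^ (a + 1))) * 2 ^ a = 0 := by
  rw [← pow_succ' (2 : ZMod (2 ^ (a + 1))) a]
  exact_mod_cast ZMod.natCast_self (2 ^ (a + 1))

theorem isUnit_of_red {r : ZMod (2 ^ (a + 1))} (h : red a r = 1) : IsUnit r := by
  obtain ⟨s, hs⟩ := red_eq_zero (r := r - 1) (by rw [map_sub, h, map_one, sub_self])
  rw [sub_eq_iff_eq_add.1 hs, add_comm (2 * s)]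
  refine IsNilpotent.isUnit_one_add ⟨a + 1, ?_⟩
  rw [mul_pow, show (2 : ZMod (2 ^ (a + 1))) ^ (a + 1) = 0 from (pow_succ' _ a).trans half_two, zero_mul]

theorem two_mul_eq_zero {r : ZMod (2 ^ (a + 1))} (h : 2 * r = 0) : r = 0 ∨ r = 2 ^ a := by
  rw [← ZMod.natCast_zmod_val r] at h ⊢
  have h' : ((2 * r.val : ℕ) : ZMod (2 ^ (a + 1))) = 0 := by push_cast; exact h
  rw [ZMod.natCast_eq_zero_iff] at h'
  obtain ⟨k, hk⟩ := (Nat.mul_dvd_mul_iff_left (by norm_num : 0 < 2)).1
    ((pow_succ' 2 a).symm.dvd.trans h')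
  have hlt : r.val < 2 ^ a * 2 := r.val_lt.trans_eq (pow_succ 2 a)
  rw [hk, Nat.mul_lt_mul_left (by positivity)] at hlt
  interval_cases k
  · left; rw [hk]; simp
  · right; rw [hk]; simp

theorem half_ne_zero : (2 : ZMod (2 ^ (a + 1))) ^ a ≠ 0 := by
  intro h
  have h' : ((2 ^ a : ℕ) : ZMod (2 ^ (a + 1))) = 0 := by push_cast; exact h
  rw [ZMod.natCast_eq_zero_iff] at h'
  exact absurd h' (Nat.not_dvd_of_pos_of_lt (by positivity) (Nat.pow_lt_pow_succ (by norm_num)))

end Ring

variable {P : Type*} [AddCommGroup P]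

/-- **The module lemma.** -/
theorem abelian_module_false [Finite P] (ρ : M3ˣ →* AddMonoid.End P) (ι : V3 →+ P)
    (hinj : Function.Injective ι) (hequiv : ∀ A v, ρ A (ι v) = ι ((A : M3) *ᵥ v))
    (hsocle : ∀ x : P, x + x = 0 → ∃ v, ι v = x) (h2 : ∃ k, ∀ x : P, 2 ^ k • x = 0)
    (s : P) (hs : ρ pX s = s) (hne : ∀ v, s + ρ pX v + v ≠ 0)
    (hU : ∃ v, ρ pU (s + ρ pX v + v) = s + ρ pX v + v) : False := by
  classical
  -- the exponent
  obtain ⟨a, ha, hmin⟩ : ∃ a, (∀ x : P, 2 ^ (a + 1) • x = 0) ∧ ¬ ∀ x : P, 2 ^ a • x = 0 := by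
    have hmin := Nat.find_spec h2
    rcases h : Nat.find h2 with _ | a
    · exfalso
      rw [h] at hmin
      have h1 := hmin (ι e0)
      rw [pow_zero, one_smul, ← map_zero ι] at h1
      exact absurd (hinj h1) (by decide)
    · rw [h] at hmin
      exact ⟨a, hmin, Nat.find_min h2 (by omega)⟩
  haveI : Module (ZMod (2 ^ (a + 1))) P := AddCommGroup.zmodModule ha
  have hlin : ∀ (A : M3ˣ) (r : ZMod (2 ^ (a + 1))) (x : P), ρ A (r • x) = r • ρ A x :=
    fun A r x => ZMod.map_smul (ρ A) r x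
  -- every socle vector is a multiple of `2 ^ a`
  have htop : ∀ v, ∃ x : P, 2 ^ a • x = ι v := by
    intro v
    by_cases hv : v = 0
    · exact ⟨0, by rw [hv, map_zero, smul_zero]⟩
    push Not at hmin
    obtain ⟨x, hx⟩ := hmin
    obtain ⟨w, hw⟩ := hsocle (2 ^ a • x) (by rw [← two_nsmul, ← mul_smul, ← pow_succ', ha])
    obtain ⟨A, hA⟩ := exists_unit_of_ne_zero hv
    obtain ⟨B, hB⟩ := exists_unit_of_ne_zero (v := w) (fun h0 => hx (by rw [← hw, h0, map_zero]))
    refine ⟨ρ (A * B⁻¹) x, ?_⟩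
    rw [← map_nsmul, ← hw, hequiv, ← hA, ← hB, Units.val_mul, Matrix.mulVec_mulVec,
      mul_assoc, Units.inv_mul, mul_one]
  obtain ⟨f0, hf0⟩ := htop e0
  obtain ⟨d0, hd0⟩ := htop ![0, 0, 1]
  set f := cyc ρ rP f0 with hf
  set d := d0 - ρ rP d0 with hd
  set d' := ρ pX d with hd'
  let g : Fin 3 → P := ![f, d, d']
  have hXX : ∀ x, ρ pX (ρ pX x) = x := fun x => by
    rw [← ρ_mul, show pX * pX = 1 by decide +kernel, ρ_one]
  have hYf : ρ rP f = f := cyc_fixed ρ rP (by decide +kernel) f0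
  have htop' : ∀ i, 2 ^ a • g i = ι (Pi.single i 1) := by
    have hft : 2 ^ a • f = ι e0 := by
      rw [hf, cyc, nsmul_add, nsmul_add, ← map_nsmul, ← map_nsmul, hf0, hequiv, hequiv,
        ← map_add, ← map_add]
      congr 1
      decide +kernel
    have hdt : 2 ^ a • d = ι ![0, 1, 0] := by
      rw [hd, nsmul_sub, ← map_nsmul, hd0, hequiv, ← map_sub]
      congr 1
      decide +kernel
    intro i
    fin_cases i
    · show 2 ^ a • f = _
      rw [hft]; congr 1; decide +kernel
    · show 2 ^ a • d = _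
      rw [hdt]; congr 1; decide +kernel
    · show 2 ^ a • d' = _
      rw [hd', ← map_nsmul, hdt, hequiv]; congr 1; decide +kernel
  -- coordinates
  let φ : (Fin 3 → ZMod (2 ^ (a + 1))) →ₗ[ZMod (2 ^ (a + 1))] P :=
    Fintype.linearCombination (ZMod (2 ^ (a + 1))) g
  have hφ : ∀ c : Fin 3 → ZMod (2 ^ (a + 1)), φ c = c 0 • f + c 1 • d + c 2 • d' := fun c => by
    rw [Fintype.linearCombination_apply, Fin.sum_univ_three]; rfl
  have hφtop : ∀ c : Fin 3 → ZMod (2 ^ (a + 1)), (2 : ZMod (2 ^ (a + 1))) ^ a • φ c = ι (fun i => red a (c i)) := by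
    intro c
    have h1 : ∀ i, (2 : ZMod (2 ^ (a + 1))) ^ a • (c i • g i) =
        ι (red a (c i) • Pi.single i 1) := by
      intro i
      rw [smul_comm, show ((2 : ZMod (2 ^ (a + 1))) ^ a) • g i = 2 ^ a • g i by
          rw [← Nat.cast_smul_eq_nsmul (ZMod (2 ^ (a + 1)))]; push_cast; rfl, htop',
        ← ZMod.natCast_zmod_val (c i), Nat.cast_smul_eq_nsmul, map_natCast,
        Nat.cast_smul_eq_nsmul, map_nsmul]
    rw [Fintype.linearCombination_apply, Finset.smul_sum]
    simp only [h1]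
    rw [← map_sum]
    congr 1
    funext i
    simp [Finset.sum_apply, Pi.single_apply]
  have hφinj : Function.Injective φ := by
    suffices ∀ k, ∀ c, (2 : ZMod (2 ^ (a + 1))) ^ k • c = 0 → φ c = 0 → c = 0 by
      refine (injective_iff_map_eq_zero φ).2 fun c hc => this (a + 1) c ?_ hc
      rw [pow_succ' (2 : ZMod (2 ^ (a + 1))) a, half_two, zero_smul]
    intro k
    induction k with
    | zero => intro c hc _; rwa [pow_zero, one_smul] at hc
    | succ k ih =>
      intro c hc hφc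
      have h2c := ih ((2 : ZMod (2 ^ (a + 1))) • c) (by rw [← mul_smul, ← pow_succ (2 : ZMod (2 ^ (a + 1))) k, hc])
        (by rw [map_smul, hφc, smul_zero])
      have h3 : ∀ i, c i = 0 ∨ c i = 2 ^ a := fun i => two_mul_eq_zero (congrFun h2c i)
      let b : Fin 3 → ZMod (2 ^ (a + 1)) := fun i => if c i = 0 then 0 else 1
      have hcb : c = (2 : ZMod (2 ^ (a + 1))) ^ a • b := by
        funext i
        rcases h3 i with h | h
        · simp [b, h]
        · simp [b, h, half_ne_zero]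
      rw [hcb, map_smul, hφtop, ← map_zero ι] at hφc
      have hb := hinj hφc
      funext i
      by_contra hci
      have := congrFun hb i
      exact hci (by simpa [b] using this)
  have hφsurj : Function.Surjective φ := by
    suffices ∀ k, ∀ x : P, 2 ^ k • x = 0 → ∃ c, φ c = x from fun x => this (a + 1) x (ha x)
    intro k
    induction k with
    | zero => exact fun x hx => ⟨0, by rw [map_zero]; rw [pow_zero, one_smul] at hx; exact hx.symm⟩
    | succ k ih =>
      intro x hx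
      obtain ⟨c, hc⟩ := ih (2 • x) (by rw [← mul_smul, ← pow_succ, hx])
      have h0 : φ ((2 : ZMod (2 ^ (a + 1))) ^ a • c) = 0 := by
        rw [map_smul, hc, ← Nat.cast_smul_eq_nsmul (ZMod (2 ^ (a + 1))) 2 x, smul_smul,
          Nat.cast_ofNat, mul_comm, half_two, zero_smul]
      have hc2 : ∀ i, ∃ c', c i = 2 * c' := by
        intro i
        refine red_eq_zero ?_
        by_contra hne1
        obtain ⟨u, hu⟩ := isUnit_of_red (eq_one_of_ne_zero' _ hne1)
        have h1 := congrFun (hφinj (h0.trans (map_zero φ).symm)) i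
        rw [Pi.smul_apply, smul_eq_mul, ← hu, Pi.zero_apply, Units.mul_left_eq_zero] at h1
        exact half_ne_zero h1
      choose c' hc' using hc2
      obtain ⟨v, hv⟩ := hsocle (x - φ c') (by
        have h4 : φ c = φ c' + φ c' := by
          rw [← map_add]; congr 1; funext i; rw [Pi.add_apply, hc' i, two_mul]
        rw [two_nsmul] at hc
        rw [sub_add_sub_comm, ← hc, h4, sub_self])
      refine ⟨c' + (2 : ZMod (2 ^ (a + 1))) ^ a • fun i => ((v i).val : ZMod (2 ^ (a + 1))), ?_⟩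
      have hv' : (fun i => red a ((v i).val : ZMod (2 ^ (a + 1)))) = v := by
        funext i; rw [map_natCast, ZMod.natCast_zmod_val]
      rw [map_add, map_smul, hφtop, hv', hv, add_sub_cancel]
  let e := LinearEquiv.ofBijective φ ⟨hφinj, hφsurj⟩
  -- matrices
  let T : M3ˣ → Matrix (Fin 3) (Fin 3) (ZMod (2 ^ (a + 1))) :=
    fun A => Matrix.of fun i j => e.symm (ρ A (g j)) i
  have hT : ∀ A c, ρ A (φ c) = φ (T A *ᵥ c) := by
    intro A c
    rw [Fintype.linearCombination_apply, map_sum]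
    have h1 : ∀ j, ρ A (c j • g j) = φ (c j • fun i => T A i j) := by
      intro j
      rw [hlin, map_smul]
      congr 1
      exact (e.apply_symm_apply _).symm
    simp only [h1]
    rw [← map_sum]
    congr 1
    funext i
    simp [Matrix.mulVec, dotProduct, Finset.sum_apply, mul_comm]
  have hText : ∀ (A : M3ˣ) (M : Matrix (Fin 3) (Fin 3) (ZMod (2 ^ (a + 1)))),
      (∀ c, ρ A (φ c) = φ (M *ᵥ c)) → T A = M := fun A M h =>
    Matrix.ext_of_mulVec_single fun j => hφinj ((hT A _).symm.trans (h _))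
  have hTone : T 1 = 1 := hText _ _ fun c => by rw [ρ_one, Matrix.one_mulVec]
  have hTmul : ∀ A B, T (A * B) = T A * T B := fun A B => hText _ _ fun c => by
    rw [ρ_mul, hT, hT, Matrix.mulVec_mulVec]
  have hTred : ∀ A : M3ˣ, (T A).map (red a) = (A : M3) := by
    intro A
    refine Matrix.ext_of_mulVec_single fun j => hinj ?_
    set c : Fin 3 → ZMod (2 ^ (a + 1)) := Pi.single j 1
    have hc : (fun i => red a (c i)) = Pi.single j (1 : ZMod 2) := by
      funext i; simp only [c, Pi.single_apply]; split_ifs <;> simp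
    have h1 := congrArg (fun x => (2 : ZMod (2 ^ (a + 1))) ^ a • x) (hT A c)
    simp only [← hlin, hφtop, hc, hequiv] at h1
    rw [h1]
    congr 1
    funext i
    simp [c, Matrix.mulVec_single]
  -- the elements centralised by `rP`
  have hN : ∀ A : M3ˣ, ∀ x, rP * A = A * (rP * rP) → cyc ρ rP (ρ A x) = ρ A (cyc ρ rP x) := by
    intro A x hA
    have hA2 : rP * rP * A = A * rP := by
      rw [mul_assoc, hA, ← mul_assoc, hA, mul_assoc, show rP * rP * (rP * rP) = rP by decide +kernel]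
    simp only [cyc, map_add, ← ρ_mul, hA, hA2]
    abel
  have hNd : cyc ρ rP d = 0 := by
    simp only [hd, cyc, map_sub, ← ρ_mul]
    rw [show rP * rP * rP = 1 by decide +kernel, ρ_one]
    abel
  have hNd' : cyc ρ rP d' = 0 := by
    rw [hd', hN pX d (by decide +kernel), hNd, map_zero]
  have hfix : ∀ x, ρ rP x = x → ∃ r : ZMod (2 ^ (a + 1)), x = r • f := by
    intro x hx
    obtain ⟨c, rfl⟩ := hφsurj x
    refine ⟨c 0, ?_⟩
    have h3 : cyc ρ rP (φ c) = φ c + φ c + φ c := by simp only [cyc, ρ_mul, hx]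
    have h4 : cyc ρ rP (φ c) = c 0 • f + c 0 • f + c 0 • f := by
      have hsmul : ∀ (r : ZMod (2 ^ (a + 1))) y, cyc ρ rP (r • y) = r • cyc ρ rP y := fun r y => by
        simp only [cyc, hlin, smul_add]
      have hadd : ∀ y z, cyc ρ rP (y + z) = cyc ρ rP y + cyc ρ rP z := fun y z => by
        simp only [cyc, map_add]; abel
      have hNf : cyc ρ rP f = f + f + f := by simp only [cyc, ρ_mul, hYf]
      rw [hφ, hadd, hadd, hsmul, hsmul, hsmul, hNd, hNd', hNf, smul_zero, add_zero, smul_zero,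
        add_zero, smul_add, smul_add]
    obtain ⟨u, hu⟩ := isUnit_of_red (a := a) (r := 3) (by rw [map_ofNat]; decide)
    refine u.isUnit.smul_left_cancel.1 ?_
    rw [hu, show (3 : ZMod (2 ^ (a + 1))) = 1 + 1 + 1 by norm_num, add_smul, add_smul, one_smul,
      ← h3, h4, add_smul, add_smul, one_smul]
  obtain ⟨ε, hε⟩ := hfix (ρ pX f) (by
    rw [← ρ_mul, show rP * pX = pX * (rP * rP) by decide +kernel, ρ_mul, ρ_mul, hYf, hYf])
  have hTX : T pX = !![ε, 0, 0; 0, 0, 1; 0, 1, 0] := by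
    refine hText _ _ fun c => ?_
    have hXd' : ρ pX d' = d := hXX d
    rw [hφ, hφ, map_add, map_add, hlin, hlin, hlin, hε, hXd', ← hd']
    simp [Matrix.mulVec, dotProduct, Fin.sum_univ_three, smul_smul]
    rw [mul_comm ε (c 0)]
    abel
  have hεred : red a ε = 1 := by
    have := congrFun (congrFun (hTred pX) 0) 0
    rw [hTX] at this
    simpa [pX] using this
  have hεsq : ε * ε = 1 := by
    have h := hTmul pX pX
    rw [show pX * pX = 1 by decide +kernel, hTone, hTX] at h
    simpa [Matrix.mul_apply, Fin.sum_univ_three] using (congrFun (congrFun h 0) 0).symm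
  -- the square of the lift
  obtain ⟨cs, rfl⟩ := hφsurj s
  obtain ⟨w, hw⟩ := hU
  obtain ⟨v, rfl⟩ := hφsurj w
  have hform : ∀ v, φ cs + ρ pX (φ v) + φ v =
      φ ![cs 0 + (1 + ε) * v 0, cs 1 + (v 1 + v 2), cs 2 + (v 1 + v 2)] := by
    intro v
    rw [hT, ← map_add, ← map_add, hTX]
    congr 1
    funext i
    fin_cases i <;> simp [dotProduct, Fin.sum_univ_three, Matrix.vecHead, Matrix.vecTail] <;> ring
  have hfix0 : ε * cs 0 = cs 0 ∧ cs 2 = cs 1 := by
    rw [hT, hTX] at hs
    have h := hφinj hs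
    have h0 := congrFun h 0
    have h1 := congrFun h 1
    simp [Matrix.mulVec, dotProduct, Fin.sum_univ_three] at h0 h1
    exact ⟨h0, h1⟩
  have hne' : ∀ t, cs 0 + (1 + ε) * t ≠ 0 := by
    intro t ht
    refine hne (φ ![t, -cs 1, 0]) ?_
    rw [hform, ← map_zero φ]
    congr 1
    funext i
    fin_cases i <;> simp [ht, hfix0.2]
  set m := cs 1 + (v 1 + v 2)
  set z0 := cs 0 + (1 + ε) * v 0 with hz0def
  rw [hform, hfix0.2, hT] at hw
  have hz : T pU *ᵥ ![z0, m, m] = ![z0, m, m] := hφinj hw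
  have hUred : ∀ i j, red a (T pU i j) = (pU : M3) i j := fun i j =>
    congrFun (congrFun (hTred pU) i) j
  -- `cs 0` is even
  have hα : red a (cs 0) = 0 := by
    by_contra hα
    have h1 : red a z0 = 1 := by
      rw [hz0def, map_add, map_mul, map_add, map_one, hεred, eq_one_of_ne_zero' _ hα,
        show (1 + 1 : ZMod 2) = 0 by decide, zero_mul, add_zero]
    have h2 := congrArg (red a) (congrFun hz 1)
    simp [Matrix.mulVec, dotProduct, Fin.sum_univ_three, hUred, h1] at h2
    simp [pU] at h2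
  -- `ε = -1` and `cs 0 = 2 ^ a`
  obtain ⟨η, hη⟩ := red_eq_zero (r := ε - 1) (by rw [map_sub, hεred, map_one, sub_self])
  have hηodd : red a η = 1 := by
    refine eq_one_of_ne_zero' _ fun h => ?_
    obtain ⟨u, hu⟩ := isUnit_of_red (r := 1 + η) (by rw [map_add, map_one, h, add_zero])
    obtain ⟨α', hα'⟩ := red_eq_zero hα
    refine hne' (-(↑u⁻¹ * α')) ?_
    have h1 : 1 + ε = 2 * (u : ZMod (2 ^ (a + 1))) := by rw [hu]; linear_combination hη
    rw [h1, hα', mul_neg, ← mul_assoc, mul_assoc 2 (u : ZMod (2 ^ (a + 1))), Units.mul_inv,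
      mul_one, add_neg_cancel]
  obtain ⟨uη, huη⟩ := isUnit_of_red hηodd
  have hα2 : cs 0 = 2 ^ a := by
    refine (two_mul_eq_zero ?_).resolve_left fun h => hne' 0 (by rw [h]; ring)
    refine (IsUnit.mul_right_eq_zero ⟨uη, huη⟩).1 ?_
    linear_combination hfix0.1 - cs 0 * hη
  have hεneg : 1 + ε = 0 := by
    refine (two_mul_eq_zero ?_).resolve_right fun h => hne' 1 (by
      rw [h, mul_one, hα2, ← two_mul, half_two])
    refine (IsUnit.mul_right_eq_zero ⟨uη, huη⟩).1 ?_
    linear_combination hεsq - (1 + ε) * hη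
  have hεval : ε = -1 := (neg_eq_of_add_eq_zero_right hεneg).symm
  have hz0 : z0 = 2 ^ a := by rw [hz0def, hεneg, zero_mul, add_zero, hα2]
  -- the matrix of `pU`
  have hXU : T pX * T pU = T pU * T pX := by
    rw [← hTmul, ← hTmul, show pX * pU = pU * pX by decide +kernel]
  have hUU : T pU * T pU = T pX := by rw [← hTmul, show pU * pU = pX by decide +kernel]
  rw [hTX, hεval] at hXU hUU
  set U := T pU with hUdef
  have e01 := congrFun (congrFun hXU 0) 1
  have e10 := congrFun (congrFun hXU 1) 0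
  have e11 := congrFun (congrFun hXU 1) 1
  have e12 := congrFun (congrFun hXU 1) 2
  simp [Matrix.mul_apply, Fin.sum_univ_three] at e01 e10 e11 e12
  have f10 := congrFun (congrFun hUU 1) 0
  have f11 := congrFun (congrFun hUU 1) 1
  have f12 := congrFun (congrFun hUU 1) 2
  simp [Matrix.mul_apply, Fin.sum_univ_three] at f10 f11 f12
  obtain ⟨uβ, huβ⟩ := isUnit_of_red (r := U 1 0) (by rw [hUred]; rfl)
  have hp : U 0 0 = U 1 2 - U 1 1 := by
    have h : U 1 0 * (U 0 0 - (U 1 2 - U 1 1)) = 0 := by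
      linear_combination f10 - U 1 2 * e10
    exact sub_eq_zero.1 ((IsUnit.mul_right_eq_zero ⟨uβ, huβ⟩).1 h)
  have hdet : U.det = 1 := by
    have hc : pU = tB * tA * (rL * rP) * (tB * tA)⁻¹ * (rL * rP)⁻¹ := by decide +kernel
    have hinv : ∀ A : M3ˣ, (T A).det * (T A⁻¹).det = 1 := fun A => by
      rw [← Matrix.det_mul, ← hTmul, mul_inv_cancel, hTone, Matrix.det_one]
    rw [hUdef, hc, hTmul, hTmul, hTmul, Matrix.det_mul, Matrix.det_mul, Matrix.det_mul,
      mul_right_comm (T (tB * tA)).det, hinv, one_mul, hinv]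
  have hsum : U 1 1 + U 1 2 = 1 := by
    rw [Matrix.det_fin_three] at hdet
    grind
  have hz1 := congrFun hz 1
  simp [Matrix.mulVec, dotProduct, Fin.sum_univ_three, hz0] at hz1
  refine half_ne_zero (a := a) ((IsUnit.mul_right_eq_zero ⟨uβ, huβ⟩).1 ?_)
  linear_combination hz1 - m * hsum

end CfsgLib.Pyramidal
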