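import Mathlib
import Cfsg.Agent.SolvableTransitive.Exponents

/-!
# Anisotropic quadratic maps with equal fibres between groups of exponent two

For `q : W → E` with biadditive polar form, no zero except `0` and all non-zero fibres of the
same size, a Gauss sum gives: `q` is bijective, or `#W = #E ^ 2` and every non-zero `u` has
surjective polar map. An automorphism of odd order preserving `q` and fixing a non-zero point
is then trivial.
-/

set_option autoImplicit false
set_option linter.unusedSectionVars false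
set_option linter.style.haveILetI false

namespace CfsgLib.Pyramidal

open scoped Classical

/-- The sign character of `ZMod 2`. -/
def sgn (z : ZMod 2) : ℤ := if z = 0 then 1 else -1

theorem sgn_add : ∀ a b : ZMod 2, sgn (a + b) = sgn a * sgn b := by decide

theorem sgn_one : sgn 1 = -1 := by decide

theorem sum_sgn {A : Type*} [AddCommGroup A] [Fintype A] (f : A →+ ZMod 2) :
    ∑ a, sgn (f a) = if f = 0 then (Fintype.card A : ℤ) else 0 := by
  split_ifs with h
  · subst h
    simp [sgn]
  · obtain ⟨a₀, ha⟩ : ∃ a, f a ≠ 0 := by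
      by_contra! hc
      exact h (AddMonoidHom.ext fun a => by simpa using hc a)
    have ha1 : f a₀ = 1 := by
      revert ha
      generalize f a₀ = z
      revert z
      decide
    have hs : ∑ a, sgn (f a) = -∑ a, sgn (f a) := by
      conv_lhs => rw [← Equiv.sum_comp (Equiv.addLeft a₀) (fun a => sgn (f a))]
      simp only [Equiv.coe_addLeft, map_add, ha1, sgn_add, sgn_one, neg_one_mul,
        Finset.sum_neg_distrib]
    omega

/-- The polar form. -/
def pol {W E : Type*} [AddCommGroup W] [AddCommGroup E] (q : W → E) (u v : W) : E :=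
  q (u + v) + q u + q v

variable {W E : Type*} [AddCommGroup W] [AddCommGroup E]

/-- An anisotropic quadratic map between groups of exponent two. -/
structure IsAniso (q : W → E) : Prop where
  two_left : ∀ w : W, w + w = 0
  two_right : ∀ e : E, e + e = 0
  add : ∀ u v w : W, pol q (u + v) w = pol q u w + pol q v w
  zero : q 0 = 0
  aniso : ∀ w : W, q w = 0 → w = 0

theorem pol_comm (q : W → E) (u v : W) : pol q u v = pol q v u := by
  rw [pol, pol, add_comm u v, add_right_comm]

namespace IsAniso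

variable {q : W → E} (hq : IsAniso q)
include hq

/-- The polar map of a point. -/
def polHom (u : W) : W →+ E :=
  AddMonoidHom.mk' (fun v => pol q u v) fun a b => by
    rw [pol_comm q u, pol_comm q u a, pol_comm q u b]
    exact hq.add a b u

theorem polHom_apply (u v : W) : hq.polHom u v = pol q u v := rfl

theorem pol_self (u : W) : pol q u u = 0 := by
  rw [pol, hq.two_left, hq.zero, zero_add, hq.two_right]

theorem q_add (u v : W) : q (u + v) = pol q u v + q u + q v := by
  calc q (u + v) = q (u + v) + ((q u + q u) + (q v + q v)) := by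
        rw [hq.two_right, hq.two_right, add_zero, add_zero]
    _ = _ := by rw [pol]; abel

theorem sum_q (u z : W) : q u + q (u + z) = q z + pol q u z := by
  rw [hq.q_add u z]
  calc q u + (pol q u z + q u + q z) = (q u + q u) + (q z + pol q u z) := by abel
    _ = q z + pol q u z := by rw [hq.two_right, zero_add]

section

variable [Finite W] [Finite E]

/-- The common fibre size. -/
theorem fibre_count (hfib : ∀ e e' : E, e ≠ 0 → e' ≠ 0 →
      Nat.card {w // q w = e} = Nat.card {w // q w = e'})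
    (e₀ : E) (he₀ : e₀ ≠ 0) :
    Nat.card W + Nat.card {w // q w = e₀} = Nat.card E * Nat.card {w // q w = e₀} + 1 := by
  have := Fintype.ofFinite W
  have := Fintype.ofFinite E
  set N := Nat.card {w // q w = e₀} with hN
  have h1 : Nat.card W = ∑ e : E, Nat.card {w // q w = e} := by
    rw [← Nat.card_sigma]
    exact Nat.card_congr (Equiv.sigmaFiberEquiv q).symm
  have h0 : Nat.card {w // q w = (0 : E)} = 1 :=
    Nat.card_eq_one_iff_unique.2
      ⟨⟨fun a b => Subtype.ext ((hq.aniso _ a.2).trans (hq.aniso _ b.2).symm)⟩, ⟨⟨0, hq.zero⟩⟩⟩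
  rw [h1, ← Finset.sum_erase_add _ _ (Finset.mem_univ (0 : E)), h0,
    Finset.sum_congr rfl (fun e he => hfib e e₀ (Finset.ne_of_mem_erase he) he₀),
    Finset.sum_const, Finset.card_erase_of_mem (Finset.mem_univ _), Finset.card_univ,
    Nat.card_eq_fintype_card (α := E), smul_eq_mul]
  obtain ⟨k, hk⟩ : ∃ k, Fintype.card E = k + 1 := ⟨Fintype.card E - 1, by
    have := Fintype.card_pos (α := E); omega⟩
  rw [hk, Nat.add_sub_cancel]
  ring

/-- The radical of a component of the polar form. -/
def rad (l : E →+ ZMod 2) : AddSubgroup W :=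
  { carrier := {z | ∀ u, l (pol q u z) = 0}
    zero_mem' := fun u => by
      show l (hq.polHom u 0) = 0
      rw [map_zero, map_zero]
    add_mem' := fun {a b} ha hb u => by
      show l (hq.polHom u (a + b)) = 0
      rw [map_add, map_add, polHom_apply, polHom_apply, ha u, hb u, add_zero]
    neg_mem' := fun {a} ha u => by
      show l (hq.polHom u (-a)) = 0
      rw [map_neg, map_neg, polHom_apply, ha u, neg_zero] }

theorem gauss_sum (l : E →+ ZMod 2) (hl : l ≠ 0)
    (hfib : ∀ e e' : E, e ≠ 0 → e' ≠ 0 →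
      Nat.card {w // q w = e} = Nat.card {w // q w = e'})
    (e₀ : E) (he₀ : e₀ ≠ 0) (hN : Nat.card {w // q w = e₀} ≠ 1) :
    ((Nat.card {w // q w = e₀} : ℤ) - 1) ^ 2 = Nat.card W * Nat.card (hq.rad l) := by
  have := Fintype.ofFinite W
  have := Fintype.ofFinite E
  set N := Nat.card {w // q w = e₀} with hNdef
  set S : ℤ := ∑ w, sgn (l (q w)) with hS
  have hS1 : S = 1 - N := by
    rw [hS, ← Finset.sum_fiberwise_of_maps_to (s := Finset.univ) (t := Finset.univ) (g := q)
      (fun _ _ => Finset.mem_univ _)]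
    have h : ∀ e : E, ∑ w ∈ Finset.univ.filter (fun w => q w = e), sgn (l (q w)) =
        (N : ℤ) * sgn (l e) + if e = 0 then 1 - (N : ℤ) else 0 := by
      intro e
      rw [Finset.sum_congr rfl (fun w hw => by rw [(Finset.mem_filter.1 hw).2]),
        Finset.sum_const, nsmul_eq_mul, ← Fintype.card_subtype, ← Nat.card_eq_fintype_card]
      split_ifs with he
      · subst he
        have h0 : Nat.card {w // q w = (0 : E)} = 1 :=
          Nat.card_eq_one_iff_unique.2
            ⟨⟨fun a b => Subtype.ext ((hq.aniso _ a.2).trans (hq.aniso _ b.2).symm)⟩,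
              ⟨⟨0, hq.zero⟩⟩⟩
        rw [h0, map_zero, show sgn 0 = 1 from rfl]
        push_cast
        ring
      · rw [hfib e e₀ he he₀, ← hNdef, add_zero]
    rw [Finset.sum_congr rfl (fun e _ => h e), Finset.sum_add_distrib, ← Finset.mul_sum,
      sum_sgn, if_neg hl, Finset.sum_ite_eq' Finset.univ (0 : E), if_pos (Finset.mem_univ _)]
    ring
  let f : (hq.rad l) →+ ZMod 2 := AddMonoidHom.mk' (fun z => l (q z)) fun a b => by
    rw [AddSubgroup.coe_add, hq.q_add, map_add, map_add, b.2 (a : W), zero_add]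
  have hS2 : S ^ 2 = Fintype.card W * ∑ z : hq.rad l, sgn (f z) := by
    have h1 : S ^ 2 = ∑ u, ∑ z, sgn (l (q z)) * sgn (l (pol q u z)) := by
      rw [sq, hS, Finset.sum_mul_sum]
      refine Finset.sum_congr rfl fun u _ => ?_
      rw [← Equiv.sum_comp (Equiv.addLeft u) (fun v => sgn (l (q u)) * sgn (l (q v)))]
      refine Finset.sum_congr rfl fun z _ => ?_
      rw [Equiv.coe_addLeft, ← sgn_add, ← map_add, hq.sum_q, map_add, sgn_add]
    have h2 : ∀ z, ∑ u, sgn (l (q z)) * sgn (l (pol q u z)) =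
        if z ∈ hq.rad l then (Fintype.card W : ℤ) * sgn (l (q z)) else 0 := by
      intro z
      rw [← Finset.mul_sum, Finset.sum_congr rfl (fun u _ => show sgn (l (pol q u z)) =
        sgn ((l.comp (hq.polHom z)) u) by rw [pol_comm]; rfl), sum_sgn]
      by_cases hz : z ∈ hq.rad l
      · rw [if_pos hz, if_pos (AddMonoidHom.ext fun u => ?_), mul_comm]
        show l (pol q z u) = 0
        rw [pol_comm]
        exact hz u
      · rw [if_neg hz, if_neg (fun h => hz fun u => ?_), mul_zero]
        rw [pol_comm]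
        exact DFunLike.congr_fun h u
    rw [h1, Finset.sum_comm, Finset.sum_congr rfl (fun z _ => h2 z), ← Finset.sum_filter,
      ← Finset.mul_sum]
    congr 1
    exact Finset.sum_subtype _ (by simp) (fun z : W => sgn (l (q z)))
  have hS0 : S ≠ 0 := by
    rw [hS1]
    intro h
    apply hN
    omega
  rw [sum_sgn] at hS2
  split_ifs at hS2 with hf
  · rw [Nat.card_eq_fintype_card, Nat.card_eq_fintype_card, ← hS2, hS1]
    ring
  · exact absurd (by simpa using hS2) hS0

/-- **The dichotomy.** -/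
theorem dichotomy {n : ℕ} (hn : 2 ≤ n) (hE : Nat.card E = 2 ^ n) (hW : Nontrivial W)
    (hfib : ∀ e e' : E, e ≠ 0 → e' ≠ 0 →
      Nat.card {w // q w = e} = Nat.card {w // q w = e'}) :
    Function.Bijective q ∨
      (Nat.card W = Nat.card E ^ 2 ∧ ∀ u : W, u ≠ 0 → Function.Surjective (pol q u)) := by
  letI := AddCommGroup.zmodModule (n := 2) (G := W) fun w => by rw [two_nsmul]; exact hq.two_left w
  letI := AddCommGroup.zmodModule (n := 2) (G := E) fun e => by rw [two_nsmul]; exact hq.two_right e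
  have h2 : Nat.card (ZMod 2) = 2 := Nat.card_zmod 2
  obtain ⟨d, hd⟩ : ∃ d, Nat.card W = 2 ^ d :=
    ⟨_, (Module.natCard_eq_pow_finrank (K := ZMod 2) (V := W)).trans (by rw [h2])⟩
  obtain ⟨w₀, hw₀⟩ := exists_ne (0 : W)
  have he₀ : q w₀ ≠ 0 := fun h => hw₀ (hq.aniso _ h)
  set N := Nat.card {w // q w = q w₀} with hN
  have hNpos : 0 < N := Nat.card_pos_iff.2 ⟨⟨⟨w₀, rfl⟩⟩, inferInstance⟩
  have hcount := hq.fibre_count hfib _ he₀
  rw [← hN, hd, hE] at hcount
  have hsurj : Function.Surjective q := by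
    intro e
    by_cases he : e = 0
    · exact ⟨0, by rw [he, hq.zero]⟩
    · have h := hfib e (q w₀) he he₀
      rw [← hN] at h
      obtain ⟨⟨w, hw⟩⟩ := (Nat.card_pos_iff.1 (h ▸ hNpos)).1
      exact ⟨w, hw⟩
  by_cases hN1 : N = 1
  · left
    refine (Nat.bijective_iff_surjective_and_card q).2 ⟨hsurj, ?_⟩
    rw [hd, hE]
    rw [hN1, mul_one] at hcount
    omega
  right
  obtain ⟨i, hi⟩ : ∃ i, N - 1 = 2 ^ i := by
    obtain ⟨l, hl⟩ : ∃ l : E →+ ZMod 2, l ≠ 0 := by
      obtain ⟨f, hf0, -⟩ := Submodule.exists_dual_map_eq_bot_of_lt_top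
        (p := (⊥ : Submodule (ZMod 2) E)) (lt_top_iff_ne_top.2 fun h =>
          he₀ ((Submodule.mem_bot (ZMod 2)).1 (h ▸ (Submodule.mem_top : q w₀ ∈ ⊤)))) inferInstance
      exact ⟨f.toAddMonoidHom, fun h => hf0 (LinearMap.ext fun x => DFunLike.congr_fun h x)⟩
    obtain ⟨r, hr⟩ : ∃ r, Nat.card (hq.rad l) = 2 ^ r := by
      obtain ⟨k, -, hk⟩ := (Nat.dvd_prime_pow Nat.prime_two).1
        (hd ▸ (hq.rad l).card_addSubgroup_dvd_card)
      exact ⟨k, hk⟩
    have h := hq.gauss_sum l hl hfib _ he₀ hN1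
    rw [← hN, hd, hr] at h
    have h' : (N - 1) ^ 2 = 2 ^ (d + r) := by
      zify [show 1 ≤ N from hNpos]
      push_cast at h
      rw [h, pow_add]
    obtain ⟨k, -, hk⟩ := (Nat.dvd_prime_pow Nat.prime_two).1 (h' ▸ dvd_pow_self (N - 1) two_ne_zero)
    exact ⟨k, hk⟩
  obtain ⟨hin, hdn⟩ : i = n ∧ d = n + n := by
    have hexp : 2 ^ (i + n) + 2 ^ n = 2 ^ d + 2 ^ i := by
      rw [show N = 2 ^ i + 1 by omega] at hcount
      rw [pow_add]
      nlinarith [hcount]
    rcases CfsgLib.SolvableTransitive.two_pow_pow_eq hexp with h | h <;> omega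
  have hrad : ∀ l : E →+ ZMod 2, l ≠ 0 → Nat.card (hq.rad l) = 1 := by
    intro l hl
    have h := hq.gauss_sum l hl hfib _ he₀ hN1
    rw [← hN, hd, show (N : ℤ) - 1 = ((N - 1 : ℕ) : ℤ) by omega, hi, hin, hdn] at h
    push_cast at h
    rw [← pow_mul, mul_two] at h
    have h4 : ((2 : ℤ) ^ (n + n)) * 1 = 2 ^ (n + n) * (Nat.card (hq.rad l) : ℤ) := by rw [mul_one]; exact h
    exact_mod_cast (mul_left_cancel₀ (by positivity) h4).symm
  refine ⟨by rw [hd, hE, hdn, ← pow_mul, mul_two], fun u hu => ?_⟩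
  by_contra hns
  set R : AddSubgroup E := (hq.polHom u).range
  have hRlt : (AddSubgroup.toZModSubmodule 2 R) < ⊤ := by
    refine lt_top_iff_ne_top.2 fun h => hns fun e => ?_
    have : e ∈ AddSubgroup.toZModSubmodule 2 R := h ▸ Submodule.mem_top
    obtain ⟨v, hv⟩ := AddMonoidHom.mem_range.1 this
    exact ⟨v, hv⟩
  obtain ⟨f, hf0, hfR⟩ := Submodule.exists_dual_map_eq_bot_of_lt_top hRlt inferInstance
  have hu' : u ∈ hq.rad f.toAddMonoidHom := fun v => by
    have hm : f (pol q v u) ∈ Submodule.map f (AddSubgroup.toZModSubmodule 2 R) :=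
      ⟨_, AddMonoidHom.mem_range.2 ⟨v, (pol_comm q u v).trans rfl⟩, rfl⟩
    rw [hfR, Submodule.mem_bot] at hm
    exact hm
  have h1 := AddSubgroup.eq_bot_of_card_eq _
    (hrad f.toAddMonoidHom fun h => hf0 (LinearMap.ext fun x => DFunLike.congr_fun h x))
  rw [h1, AddSubgroup.mem_bot] at hu'
  exact hu hu'

/-- An automorphism of odd order preserving `q` and fixing a non-zero point is trivial. -/
theorem eq_self_of_fixed
    (hdi : Function.Bijective q ∨
      (Nat.card W = Nat.card E ^ 2 ∧ ∀ u : W, u ≠ 0 → Function.Surjective (pol q u)))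
    (h : W →+ W) {m : ℕ} (hm : Odd m) (hit : ∀ w, h^[m] w = w) (hqh : ∀ w, q (h w) = q w)
    {u : W} (hu : u ≠ 0) (hhu : h u = u) (w : W) : h w = w := by
  rcases hdi with hb | ⟨hcard, hsur⟩
  · exact hb.1 (hqh w)
  let f : W →+ W := h + AddMonoidHom.id W
  have hfix : ∀ v, v ∈ f.ker ↔ h v = v := by
    intro v
    rw [AddMonoidHom.mem_ker]
    show h v + v = 0 ↔ _
    constructor
    · intro hv
      calc h v = h v + (v + v) := by rw [hq.two_left, add_zero]
        _ = v := by rw [← add_assoc, hv, zero_add]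
    · intro hv
      rw [hv, hq.two_left]
  have hsq : ∀ v, h (h v) = v → h v = v := by
    intro v hv
    obtain ⟨k, rfl⟩ := hm
    have h2 : h^[2 * k] v = v := by
      rw [Function.iterate_mul]
      exact Function.iterate_fixed (show (h^[2]) v = v from hv) k
    have h1 := hit v
    have h3 := Function.iterate_succ_apply' (⇑h) (2 * k) v
    rw [h2] at h3
    exact h3.symm.trans h1
  have hdisj : ∀ v, v ∈ f.ker → v ∈ f.range → v = 0 := by
    intro v hv hv'
    obtain ⟨z, rfl⟩ := AddMonoidHom.mem_range.1 hv'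
    have h1 : h (h z + z) = h z + z := (hfix _).1 hv
    rw [map_add] at h1
    show h z + z = 0
    have h2 : h (h z) = z := by
      rw [add_comm (h z) z] at h1
      exact add_right_cancel h1
    rw [hsq z h2, hq.two_left]
  have hperp : ∀ a ∈ f.ker, ∀ d ∈ f.range, pol q a d = 0 := by
    intro a ha d hd
    obtain ⟨z, rfl⟩ := AddMonoidHom.mem_range.1 hd
    show hq.polHom a (h z + z) = 0
    rw [map_add, polHom_apply, polHom_apply]
    have e : pol q a (h z) = pol q a z := by
      conv_lhs => rw [← (hfix a).1 ha]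
      simp only [pol, ← map_add, hqh]
    rw [e, hq.two_right]
  have hprod : Nat.card f.ker * Nat.card f.range = Nat.card W := by
    rw [← AddSubgroup.index_ker f]
    exact f.ker.card_mul_index
  have hsplit : ∀ w : W, ∃ a ∈ f.ker, ∃ d ∈ f.range, w = a + d := by
    have hinj : Function.Injective (fun x : f.ker × f.range => (x.1 : W) + (x.2 : W)) := by
      rintro ⟨a, d⟩ ⟨a', d'⟩ e
      simp only at e
      have e' : (a : W) - a' = d' - d := by
        rw [sub_eq_sub_iff_add_eq_add, add_comm (d' : W)]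
        exact e
      have h0 := hdisj _ (sub_mem a.2 a'.2) (e' ▸ sub_mem d'.2 d.2)
      have ha : (a : W) = a' := sub_eq_zero.1 h0
      refine Prod.ext (Subtype.ext ha) (Subtype.ext ?_)
      rw [ha] at e
      exact add_left_cancel e
    obtain hb := (Nat.bijective_iff_injective_and_card _).2 ⟨hinj, by rw [Nat.card_prod, hprod]⟩
    intro w
    obtain ⟨⟨a, d⟩, rfl⟩ := hb.2 w
    exact ⟨a, a.2, d, d.2, rfl⟩
  have hbig : ∀ (A B : AddSubgroup W), (∀ a ∈ A, ∀ b ∈ B, pol q a b = 0) →
      (∀ w : W, ∃ a ∈ A, ∃ b ∈ B, w = a + b) → ∀ a₀ ∈ A, a₀ ≠ 0 →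
      2 * Nat.card E ≤ Nat.card A := by
    intro A B hAB hsp a₀ ha₀ hne
    have hsu : ∀ e : E, ∃ a : A, pol q a₀ a = e := by
      intro e
      obtain ⟨v, rfl⟩ := hsur a₀ hne e
      obtain ⟨a, ha, b, hb, rfl⟩ := hsp v
      refine ⟨⟨a, ha⟩, ?_⟩
      show pol q a₀ a = hq.polHom a₀ (a + b)
      rw [map_add, polHom_apply, polHom_apply, hAB a₀ ha₀ b hb, add_zero]
    choose s hs using hsu
    rw [show 2 * Nat.card E = Nat.card (Bool × E) by simp [Nat.card_prod]]
    refine Nat.card_le_card_of_injective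
      (fun x : Bool × E => if x.1 then s x.2 + ⟨a₀, ha₀⟩ else s x.2) ?_
    have hval : ∀ e (b : Bool), pol q a₀ ((if b then s e + ⟨a₀, ha₀⟩ else s e : A) : W) = e := by
      intro e b
      cases b
      · simpa using hs e
      · rw [if_pos rfl, AddSubgroup.coe_add]
        show hq.polHom a₀ ((s e : W) + a₀) = e
        rw [map_add, polHom_apply, polHom_apply, hs, hq.pol_self, add_zero]
    rintro ⟨b, e⟩ ⟨b', e'⟩ hx
    simp only at hx
    have he : e = e' := by rw [← hval e b, hx, hval]
    subst he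
    refine Prod.ext ?_ rfl
    cases b <;> cases b'
    · rfl
    · exfalso
      rw [if_neg Bool.false_ne_true, if_pos rfl] at hx
      exact hne (congrArg Subtype.val (left_eq_add.1 hx) : _)
    · exfalso
      rw [if_neg Bool.false_ne_true, if_pos rfl] at hx
      exact hne (congrArg Subtype.val (add_eq_left.1 hx) : _)
    · rfl
  have hU := hbig f.ker f.range hperp hsplit u ((hfix u).2 hhu) hu
  by_contra hw
  have hd0 : f w ≠ 0 := fun h0 => hw ((hfix w).1 (AddMonoidHom.mem_ker.2 h0))
  have hD := hbig f.range f.ker (fun a ha b hb => by rw [pol_comm]; exact hperp b hb a ha)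
    (fun v => by obtain ⟨a, ha, d, hd, rfl⟩ := hsplit v; exact ⟨d, hd, a, ha, add_comm a d⟩)
    (f w) ⟨w, rfl⟩ hd0
  have := Nat.mul_le_mul hU hD
  rw [hprod, hcard] at this
  have hpos : 0 < Nat.card E := Nat.card_pos
  nlinarith

end

end IsAniso

end CfsgLib.Pyramidal
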