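import Cfsg.Agent.Pyramidal.Basics
import Cfsg.Agent.Pyramidal.Quad
import Cfsg.Agent.S1279
import Cfsg.Agent.SolvSig.Theorem

/-!
# Central involutions, a Sylow 2-subgroup of class two

A group whose involutions are the non-trivial elements of a central elementary abelian `Z`
(`#Z ≥ 4`), permuted transitively by automorphisms fixing a Sylow 2-subgroup `S` with squares
and commutators in `Z`, and with trivial odd core, is solvable: in the quotient by `Z` all
involution centralisers have normal 2-complements, so the solvable signalizer functor theorem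
forces one class of involutions, while squares separate classes.
-/

set_option autoImplicit false
set_option linter.unusedSectionVars false
set_option linter.style.haveILetI false

namespace CfsgLib.Pyramidal

open Subgroup

/-- The configuration. -/
structure Central (C : Type*) [Group C] where
  Z : Subgroup C
  S : Sylow 2 C
  central : Z ≤ center C
  sq_one : ∀ z ∈ Z, z * z = 1
  mem_of_sq : ∀ x : C, x * x = 1 → x ∈ Z
  n : ℕ
  two_le : 2 ≤ n
  card : Nat.card Z = 2 ^ n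
  sq_mem : ∀ x ∈ (S : Subgroup C), x * x ∈ Z
  comm_mem : ∀ x ∈ (S : Subgroup C), ∀ y ∈ (S : Subgroup C), (x * y)⁻¹ * (y * x) ∈ Z
  core : Cfsg.oddCore C = ⊥
  trans : ∀ e ∈ Z, ∀ e' ∈ Z, e ≠ 1 → e' ≠ 1 →
    ∃ β : MulAut C, (∀ x ∈ (S : Subgroup C), β x ∈ (S : Subgroup C)) ∧ β e = e'

namespace Central

variable {C : Type*} [Group C] [Finite C] (D : Central C)

instance normal : D.Z.Normal :=
  ⟨fun z hz g => by rwa [mem_center_iff.1 (D.central hz) g, mul_inv_cancel_right]⟩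

theorem comm_z {z : C} (hz : z ∈ D.Z) (g : C) : g * z = z * g := mem_center_iff.1 (D.central hz) g

theorem le_S : D.Z ≤ (D.S : Subgroup C) := by
  have hZ : IsPGroup 2 D.Z := IsPGroup.of_card D.card
  rw [← D.S.3 (D.S.isPGroup'.to_sup_of_normal_right hZ) le_sup_left]
  exact le_sup_right

/-- The quotient map. -/
def proj : C →* C ⧸ D.Z := QuotientGroup.mk' D.Z

theorem proj_surj : Function.Surjective D.proj := QuotientGroup.mk'_surjective _

theorem proj_eq_one {c : C} : D.proj c = 1 ↔ c ∈ D.Z := QuotientGroup.eq_one_iff c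

theorem sq_eq_of_proj_eq {a b : C} (h : D.proj a = D.proj b) : a * a = b * b := by
  have hz : a⁻¹ * b ∈ D.Z := QuotientGroup.eq.1 h
  have hb : b = a * (a⁻¹ * b) := by rw [mul_inv_cancel_left]
  rw [hb]
  generalize a⁻¹ * b = z at hz
  rw [mul_assoc a z, ← mul_assoc z a z, ← D.comm_z hz a, mul_assoc a z z, D.sq_one z hz, mul_one]

/-- The square of a coset. -/
noncomputable def sqf (x : C ⧸ D.Z) : C := Quotient.out x * Quotient.out x

theorem sqf_proj (c : C) : D.sqf (D.proj c) = c * c :=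
  D.sq_eq_of_proj_eq (QuotientGroup.out_eq' _)

theorem sqf_eq_one {x : C ⧸ D.Z} (h : D.sqf x = 1) : x = 1 := by
  obtain ⟨c, rfl⟩ := D.proj_surj x
  rw [D.sqf_proj] at h
  exact D.proj_eq_one.2 (D.mem_of_sq c h)

theorem sqf_conj {x : C ⧸ D.Z} (hx : D.sqf x ∈ D.Z) (y : C ⧸ D.Z) :
    D.sqf (y * x * y⁻¹) = D.sqf x := by
  obtain ⟨c, rfl⟩ := D.proj_surj x
  obtain ⟨d, rfl⟩ := D.proj_surj y
  rw [D.sqf_proj] at hx
  rw [← map_inv, ← map_mul, ← map_mul, D.sqf_proj, D.sqf_proj]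
  calc (d * c * d⁻¹) * (d * c * d⁻¹) = d * (c * c) * d⁻¹ := by group
    _ = c * c := by rw [D.comm_z hx, mul_inv_cancel_right]

/-- The Sylow 2-subgroup of the quotient. -/
def W : Sylow 2 (C ⧸ D.Z) :=
  haveI : Fact (Nat.Prime 2) := ⟨Nat.prime_two⟩
  D.S.mapSurjective D.proj_surj

theorem mem_W {x : C ⧸ D.Z} :
    x ∈ (D.W : Subgroup (C ⧸ D.Z)) ↔ ∃ s ∈ (D.S : Subgroup C), D.proj s = x := Subgroup.mem_map

theorem sqf_mem {x : C ⧸ D.Z} (hx : x ∈ (D.W : Subgroup (C ⧸ D.Z))) : D.sqf x ∈ D.Z := by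
  obtain ⟨s, hs, rfl⟩ := D.mem_W.1 hx
  rw [D.sqf_proj]
  exact D.sq_mem s hs

theorem W_two {x : C ⧸ D.Z} (hx : x ∈ (D.W : Subgroup (C ⧸ D.Z))) : x * x = 1 := by
  obtain ⟨s, hs, rfl⟩ := D.mem_W.1 hx
  rw [← map_mul]
  exact D.proj_eq_one.2 (D.sq_mem s hs)

theorem W_comm {x y : C ⧸ D.Z} (hx : x ∈ (D.W : Subgroup (C ⧸ D.Z)))
    (hy : y ∈ (D.W : Subgroup (C ⧸ D.Z))) : x * y = y * x := by
  obtain ⟨a, ha, rfl⟩ := D.mem_W.1 hx
  obtain ⟨b, hb, rfl⟩ := D.mem_W.1 hy
  rw [← map_mul, ← map_mul]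
  exact QuotientGroup.eq.2 (D.comm_mem a ha b hb)

theorem fibre_le {e e' : C} (he : e ∈ D.Z) (he' : e' ∈ D.Z) (h : e ≠ 1) (h' : e' ≠ 1) :
    Nat.card {w : C ⧸ D.Z // w ∈ (D.W : Subgroup (C ⧸ D.Z)) ∧ D.sqf w = e} ≤
      Nat.card {w : C ⧸ D.Z // w ∈ (D.W : Subgroup (C ⧸ D.Z)) ∧ D.sqf w = e'} := by
  obtain ⟨β, hβS, hβe⟩ := D.trans e he e' he' h h'
  have hZ : D.Z ≤ D.Z.comap β.toMonoidHom := fun z hz => D.mem_of_sq _ (by
    show β z * β z = 1
    rw [← map_mul, D.sq_one z hz, map_one])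
  set φ := QuotientGroup.map D.Z D.Z β.toMonoidHom hZ with hφ
  have hmk : ∀ c, φ (D.proj c) = D.proj (β c) := fun c => rfl
  have hinj : Function.Injective φ := by
    rw [injective_iff_map_eq_one]
    intro x hx
    obtain ⟨c, rfl⟩ := D.proj_surj x
    rw [hmk, D.proj_eq_one] at hx
    refine D.proj_eq_one.2 (D.mem_of_sq c (β.injective ?_))
    rw [map_mul, map_one, D.sq_one _ hx]
  refine Nat.card_le_card_of_injective (fun w => ⟨φ w.1, ?_, ?_⟩)
    fun a b hab => Subtype.ext (hinj (congrArg Subtype.val hab))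
  · obtain ⟨s, hs, hsw⟩ := D.mem_W.1 w.2.1
    exact D.mem_W.2 ⟨β s, hβS s hs, by rw [← hmk, hsw]⟩
  · obtain ⟨s, hs, hsw⟩ := D.mem_W.1 w.2.1
    rw [← hsw, hmk, D.sqf_proj, ← map_mul, ← D.sqf_proj, hsw, w.2.2, hβe]

theorem key (hne : (D.W : Subgroup (C ⧸ D.Z)) ≠ ⊥) :
    (∀ x ∈ normalizer ((D.W : Subgroup (C ⧸ D.Z)) : Set (C ⧸ D.Z)),
      (∃ c ∈ (D.W : Subgroup (C ⧸ D.Z)), c ≠ 1 ∧ x * c = c * x) →
        ∀ w ∈ (D.W : Subgroup (C ⧸ D.Z)), x * w = w * x) ∧
    ((normalizer ((D.W : Subgroup (C ⧸ D.Z)) : Set (C ⧸ D.Z)) ≤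
        centralizer ((D.W : Subgroup (C ⧸ D.Z)) : Set (C ⧸ D.Z))) ∨
      Nat.card (D.W : Subgroup (C ⧸ D.Z)) = Nat.card D.Z ^ 2) ∧
    ∀ e ∈ D.Z, e ≠ 1 → ∃ w ∈ (D.W : Subgroup (C ⧸ D.Z)), w ≠ 1 ∧ D.sqf w = e := by
  set W : Subgroup (C ⧸ D.Z) := (D.W : Subgroup (C ⧸ D.Z)) with hW
  letI : CommGroup ↥W := { (inferInstance : Group ↥W) with
    mul_comm := fun a b => Subtype.ext (D.W_comm a.2 b.2) }
  letI : CommGroup ↥D.Z := { (inferInstance : Group ↥D.Z) with
    mul_comm := fun a b => Subtype.ext (D.comm_z b.2 a) }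
  let q : Additive ↥W → Additive ↥D.Z := fun w =>
    Additive.ofMul ⟨D.sqf (Additive.toMul w : ↥W), D.sqf_mem (Additive.toMul w : ↥W).2⟩
  have hqval : ∀ (u : ↥W), ((Additive.toMul (q (Additive.ofMul u)) : ↥D.Z) : C) = D.sqf u :=
    fun u => rfl
  have hpolval : ∀ (a b : C) (ha : D.proj a ∈ W) (hb : D.proj b ∈ W), a ∈ (D.S : Subgroup C) →
      b ∈ (D.S : Subgroup C) →
      ((Additive.toMul (pol q (Additive.ofMul ⟨D.proj a, ha⟩) (Additive.ofMul ⟨D.proj b, hb⟩)) : ↥D.Z) : C)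
        = (a * b)⁻¹ * (b * a) := by
    intro a b ha hb has hbs
    show D.sqf (D.proj a * D.proj b) * D.sqf (D.proj a) * D.sqf (D.proj b) = _
    rw [← map_mul, D.sqf_proj, D.sqf_proj, D.sqf_proj]
    set B := (a * b)⁻¹ * (b * a) with hB
    have hBz : B ∈ D.Z := D.comm_mem a has b hbs
    have hba : b * a = a * b * B := by rw [hB, mul_inv_cancel_left]
    have h1 : (a * b) * (a * b) = (a * a) * (b * b) * B := by
      calc (a * b) * (a * b) = a * (b * a) * b := by group
        _ = a * (a * b) * (B * b) := by rw [hba]; group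
        _ = a * (a * b) * (b * B) := by rw [D.comm_z hBz b]
        _ = (a * a) * (b * b) * B := by group
    have ha2 := D.sq_mem a has
    have hb2 := D.sq_mem b hbs
    rw [h1]
    calc a * a * (b * b) * B * (a * a) * (b * b)
        = a * a * (b * b) * (B * (a * a)) * (b * b) := by group
      _ = a * a * ((b * b) * (a * a)) * B * (b * b) := by rw [D.comm_z ha2 B]; group
      _ = (a * a) * (a * a) * ((b * b) * B * (b * b)) := by rw [D.comm_z ha2 (b * b)]; group
      _ = B := by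
        rw [D.sq_one _ ha2, one_mul, mul_assoc, D.comm_z hb2 B, ← mul_assoc, D.sq_one _ hb2, one_mul]
  have hq : IsAniso q := by
    refine ⟨fun w => ?_, fun e => ?_, fun u v w => ?_, ?_, fun w hw => ?_⟩
    · exact congrArg Additive.ofMul (Subtype.ext (D.W_two (Additive.toMul w : ↥W).2) :
        Additive.toMul w * Additive.toMul w = 1)
    · exact congrArg Additive.ofMul (Subtype.ext (D.sq_one _ (Additive.toMul e : ↥D.Z).2) :
        Additive.toMul e * Additive.toMul e = 1)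
    · obtain ⟨u, rfl⟩ : ∃ x, Additive.ofMul x = u := ⟨_, rfl⟩
      obtain ⟨v, rfl⟩ : ∃ x, Additive.ofMul x = v := ⟨_, rfl⟩
      obtain ⟨w, rfl⟩ : ∃ x, Additive.ofMul x = w := ⟨_, rfl⟩
      obtain ⟨_, hu⟩ := u
      obtain ⟨_, hv⟩ := v
      obtain ⟨_, hw⟩ := w
      obtain ⟨a, ha, rfl⟩ := D.mem_W.1 hu
      obtain ⟨b, hb, rfl⟩ := D.mem_W.1 hv
      obtain ⟨c, hc, rfl⟩ := D.mem_W.1 hw
      apply Additive.toMul.injective
      apply Subtype.ext
      have hab : Additive.ofMul (⟨D.proj a, hu⟩ : ↥W) + Additive.ofMul (⟨D.proj b, hv⟩ : ↥W) =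
          Additive.ofMul (⟨D.proj (a * b), by rw [map_mul]; exact mul_mem hu hv⟩ : ↥W) :=
        congrArg Additive.ofMul (Subtype.ext (map_mul D.proj a b).symm)
      rw [hab, toMul_add, Subgroup.coe_mul, hpolval _ _ _ _ (mul_mem ha hb) hc,
        hpolval _ _ _ _ ha hc, hpolval _ _ _ _ hb hc]
      have hA : (a * c)⁻¹ * (c * a) ∈ D.Z := D.comm_mem a ha c hc
      generalize hA' : (a * c)⁻¹ * (c * a) = A at hA ⊢
      generalize hB' : (b * c)⁻¹ * (c * b) = B
      have e1 : c * a = a * c * A := by rw [← hA', mul_inv_cancel_left]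
      have e2 : c * b = b * c * B := by rw [← hB', mul_inv_cancel_left]
      calc (a * b * c)⁻¹ * (c * (a * b)) = (a * b * c)⁻¹ * (a * c * (A * b)) := by
            rw [← mul_assoc c a b, e1]; group
        _ = (a * b * c)⁻¹ * (a * (c * b) * A) := by rw [← D.comm_z hA b]; group
        _ = B * A := by rw [e2]; group
        _ = A * B := D.comm_z hA B
    · apply Additive.toMul.injective
      apply Subtype.ext
      show D.sqf 1 = 1
      rw [← map_one D.proj, D.sqf_proj, mul_one]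
    · have h : D.sqf (Additive.toMul w : ↥W) = 1 := congrArg (fun x => ((Additive.toMul x : ↥D.Z) : C)) hw
      exact congrArg Additive.ofMul (Subtype.ext (D.sqf_eq_one h) : Additive.toMul w = 1)
  have hcnt : ∀ e : Additive ↥D.Z, Nat.card {w // q w = e} =
      Nat.card {w : C ⧸ D.Z // w ∈ W ∧ D.sqf w = (Additive.toMul e : ↥D.Z)} := fun e =>
    Nat.card_congr
      { toFun := fun w => ⟨(Additive.toMul w.1 : ↥W), (Additive.toMul w.1 : ↥W).2,
          congrArg (fun x => ((Additive.toMul x : ↥D.Z) : C)) w.2⟩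
        invFun := fun w => ⟨Additive.ofMul ⟨w.1, w.2.1⟩,
          congrArg Additive.ofMul (Subtype.ext w.2.2 : (⟨D.sqf w.1, _⟩ : ↥D.Z) = Additive.toMul e)⟩
        left_inv := fun w => rfl
        right_inv := fun w => rfl }
  have hfib : ∀ e e' : Additive ↥D.Z, e ≠ 0 → e' ≠ 0 →
      Nat.card {w // q w = e} = Nat.card {w // q w = e'} := by
    intro e e' he he'
    have h1 : ((Additive.toMul e : ↥D.Z) : C) ≠ 1 :=
      fun h => he (congrArg Additive.ofMul (Subtype.ext h : Additive.toMul e = 1))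
    have h2 : ((Additive.toMul e' : ↥D.Z) : C) ≠ 1 :=
      fun h => he' (congrArg Additive.ofMul (Subtype.ext h : Additive.toMul e' = 1))
    rw [hcnt, hcnt]
    exact le_antisymm (D.fibre_le (Additive.toMul e).2 (Additive.toMul e').2 h1 h2)
      (D.fibre_le (Additive.toMul e').2 (Additive.toMul e).2 h2 h1)
  haveI : Nontrivial ↥W := (nontrivial_iff_ne_bot W).2 hne
  have hdi := hq.dichotomy D.two_le (E := Additive ↥D.Z) (by exact D.card) inferInstance hfib
  have hfix : ∀ x ∈ normalizer (W : Set (C ⧸ D.Z)),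
      ∃ (h : Additive ↥W →+ Additive ↥W) (m : ℕ), Odd m ∧ (∀ w, h^[m] w = w) ∧
        (∀ w, q (h w) = q w) ∧
        ∀ w : ↥W, ((Additive.toMul (h (Additive.ofMul w)) : ↥W) : C ⧸ D.Z) = x * w * x⁻¹ := by
    intro x hx
    obtain ⟨m, hm, hxm⟩ := exists_odd_pow_mem D.W hx
    let f : ↥W →* ↥W :=
      { toFun := fun d => ⟨x * d * x⁻¹, (Subgroup.mem_normalizer_iff.1 hx d).1 d.2⟩
        map_one' := Subtype.ext (by simp)
        map_mul' := fun a b => Subtype.ext (by simp [mul_assoc]) }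
    have hval : ∀ (k : ℕ) (d : ↥W), ((f^[k] d : ↥W) : C ⧸ D.Z) = x ^ k * d * (x ^ k)⁻¹ := by
      intro k
      induction k with
      | zero => intro d; simp
      | succ k ih =>
        intro d
        rw [Function.iterate_succ_apply']
        show x * (f^[k] d : ↥W) * x⁻¹ = _
        rw [ih, pow_succ']
        group
    refine ⟨MonoidHom.toAdditive f, m, hm, fun w => ?_, fun w => ?_, fun w => rfl⟩
    · have h1 : f^[m] (Additive.toMul w) = Additive.toMul w := Subtype.ext (by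
        rw [hval, D.W_comm hxm (Additive.toMul w : ↥W).2, mul_inv_cancel_right])
      exact congrArg Additive.ofMul h1
    · exact congrArg Additive.ofMul (Subtype.ext (D.sqf_conj (D.sqf_mem (Additive.toMul w : ↥W).2) x))
  refine ⟨fun x hx hc w hw => ?_, ?_, fun e he he1 => ?_⟩
  · obtain ⟨c, hc, hc1, hxc⟩ := hc
    obtain ⟨h, m, hm, hit, hqh, hval⟩ := hfix x hx
    have hfixc : h (Additive.ofMul ⟨c, hc⟩) = Additive.ofMul ⟨c, hc⟩ := by
      apply Additive.toMul.injective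
      apply Subtype.ext
      rw [hval]
      show x * c * x⁻¹ = c
      rw [hxc, mul_inv_cancel_right]
    have hh := hq.eq_self_of_fixed hdi h hm hit hqh
      (u := Additive.ofMul ⟨c, hc⟩) (fun h0 => hc1 (congrArg (fun y => ((Additive.toMul y : ↥W) : C ⧸ D.Z)) h0))
      hfixc (Additive.ofMul ⟨w, hw⟩)
    have := hval ⟨w, hw⟩
    rw [hh] at this
    exact (mul_inv_eq_iff_eq_mul.1 this.symm)
  · rcases hdi with hb | ⟨hc, -⟩
    · refine Or.inl fun x hx w hw => ?_
      obtain ⟨h, m, hm, hit, hqh, hval⟩ := hfix x hx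
      have := hval ⟨w, hw⟩
      rw [hb.1 (hqh (Additive.ofMul ⟨w, hw⟩))] at this
      exact (mul_inv_eq_iff_eq_mul.1 this.symm).symm
    · exact Or.inr hc
  · have hsurj : Function.Surjective q := by
      rcases hdi with hb | ⟨hc, hs⟩
      · exact hb.2
      · intro y
        by_cases hy : y = 0
        · exact ⟨0, hy.symm ▸ hq.zero⟩
        obtain ⟨w₀, hw₀⟩ := exists_ne (0 : Additive ↥W)
        have hpos : 0 < Nat.card {w // q w = q w₀} := Nat.card_pos_iff.2 ⟨⟨⟨w₀, rfl⟩⟩, inferInstance⟩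
        rw [hfib _ y (fun h0 => hw₀ (hq.aniso _ h0)) hy] at hpos
        obtain ⟨⟨w, hw⟩⟩ := (Nat.card_pos_iff.1 hpos).1
        exact ⟨w, hw⟩
    obtain ⟨w, hw⟩ := hsurj (Additive.ofMul ⟨e, he⟩)
    have hwe : D.sqf (Additive.toMul w : ↥W) = e :=
      congrArg (fun y => ((Additive.toMul y : ↥D.Z) : C)) hw
    refine ⟨_, (Additive.toMul w : ↥W).2, fun h1 => he1 ?_, hwe⟩
    rw [← hwe, h1, ← map_one D.proj, D.sqf_proj, mul_one]

theorem core_quotient : Cfsg.oddCore (C ⧸ D.Z) = ⊥ := by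
  haveI : Fact (Nat.Prime 2) := ⟨Nat.prime_two⟩
  set O := Cfsg.oddCore (C ⧸ D.Z) with hOdef
  have hOodd : Odd (Nat.card O) := Nat.coprime_two_right.1 (PLocal.coprime_card_pPrimeCore 2 _)
  set K := O.comap D.proj with hK
  haveI : K.Normal := Subgroup.Normal.comap inferInstance _
  have hZK : D.Z ≤ K := fun z hz => by
    rw [hK, mem_comap, D.proj_eq_one.2 hz]
    exact one_mem O
  let T : Sylow 2 K := (IsPGroup.of_card (p := 2) (n := D.n) (G := ↥(D.Z.subgroupOf K))
    (by rw [Nat.card_congr (subgroupOfEquivOfLe hZK).toEquiv, D.card])).toSylow (by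
      rw [show (D.Z.subgroupOf K).index = D.Z.relIndex K from rfl,
        show D.Z.relIndex K = Nat.card O from ?_]
      · exact fun h => Nat.not_even_iff_odd.2 hOodd (even_iff_two_dvd.2 h)
      · have hker : D.proj.ker = D.Z := QuotientGroup.ker_mk' _
        refine (congrArg (fun A : Subgroup C => A.relIndex K) hker).symm.trans ?_
        show D.proj.ker.relIndex K = _
        rw [← MonoidHom.comap_bot D.proj, hK, relIndex_comap, map_comap_eq_self_of_surjective D.proj_surj,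
          relIndex_bot_left])
  have h2 := isPGroup_of_central D.core T (fun x hx => mem_center_iff.2 fun y => Subtype.ext
    (D.comm_z (show (x : C) ∈ D.Z from hx) y))
  rw [← Subgroup.card_eq_one]
  by_contra hne
  obtain ⟨k, hk⟩ := IsPGroup.iff_card.1 ((h2.map D.proj).to_le
    (by rw [hK, map_comap_eq_self_of_surjective D.proj_surj] : O ≤ K.map D.proj))
  rcases k with _ | k
  · exact hne hk
  · exact Nat.not_even_iff_odd.2 hOodd (by rw [hk, pow_succ]; exact even_two.mul_left _)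

end Central

end CfsgLib.Pyramidal
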