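import Cfsg.Agent.Pyramidal.Central

/-!
# The central configuration is solvable
-/

set_option autoImplicit false
set_option linter.unusedSectionVars false
set_option linter.style.haveILetI false

namespace CfsgLib.Pyramidal

open Subgroup

open scoped Classical

/-- An element squaring to one of a subgroup is conjugate there into a given Sylow 2-subgroup. -/
theorem exists_conj_into {X : Type*} [Group X] [Finite X] {M : Subgroup X} (W : Sylow 2 X)
    (hWM : (W : Subgroup X) ≤ M) {y : X} (hy : y ∈ M) (hy2 : y * y = 1) :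
    ∃ m ∈ M, m * y * m⁻¹ ∈ (W : Subgroup X) := by
  haveI : Fact (Nat.Prime 2) := ⟨Nat.prime_two⟩
  set y' : M := ⟨y, hy⟩
  have hp : IsPGroup 2 (zpowers y') := by
    intro z
    obtain ⟨k, hk⟩ := mem_zpowers_iff.1 z.2
    refine ⟨1, Subtype.ext ?_⟩
    have h2 : y' ^ (2 : ℕ) = 1 := Subtype.ext (by rw [pow_two]; exact hy2)
    show (z : M) ^ (2 ^ 1) = 1
    rw [← hk, pow_one, ← zpow_natCast, ← zpow_mul, mul_comm, zpow_mul, zpow_natCast, h2, one_zpow]
  obtain ⟨Q, hQ⟩ := hp.exists_le_sylow
  obtain ⟨m, hm⟩ := MulAction.exists_smul_eq M Q (W.subtype hWM)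
  refine ⟨m, m.2, ?_⟩
  have hmem : m * y' * m⁻¹ ∈ ((m • Q : Sylow 2 M) : Subgroup M) := by
    rw [Sylow.coe_subgroup_smul]
    exact smul_mem_pointwise_smul y' (MulAut.conj m) _ (hQ (mem_zpowers y'))
  rw [hm, Sylow.coe_subtype, mem_subgroupOf] at hmem
  exact hmem

namespace Central

variable {C : Type*} [Group C] [Finite C] (D : Central C)

theorem isSolvable_quotient : Group.IsSolvable (C ⧸ D.Z) := by
  haveI : Fact (Nat.Prime 2) := ⟨Nat.prime_two⟩
  set W : Subgroup (C ⧸ D.Z) := (D.W : Subgroup (C ⧸ D.Z)) with hWdef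
  by_cases hne : W = ⊥
  · refine (of_normalizer_le_centralizer D.W fun x _ w hw => ?_).2
    have h1 : w = 1 := mem_bot.1 (hne ▸ hw)
    rw [h1, one_mul, mul_one]
  obtain ⟨hkey, hcase, hsurj⟩ := D.key hne
  rcases hcase with hle | hcard
  · exact (of_normalizer_le_centralizer D.W hle).2
  by_contra hns
  have hcore : Cfsg.oddCore (C ⧸ D.Z) = ⊥ := D.core_quotient
  -- centralisers of involutions
  have hWc : ∀ c ∈ W, W ≤ centralizer {c} := fun c hc w hw =>
    mem_centralizer_singleton_iff.2 (D.W_comm hw hc)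
  have hC : ∀ c ∈ W, c ≠ 1 → Group.IsSolvable (centralizer ({c} : Set (C ⧸ D.Z))) ∧
      centralizer {c} ≤ Cfsg.centralizerPPrimeCore 2 c ⊔ W := by
    intro c hc hc1
    set X := centralizer ({c} : Set (C ⧸ D.Z))
    obtain ⟨htop, hsol⟩ := of_normalizer_le_centralizer (D.W.subtype (hWc c hc)) fun x hx => by
      intro w hw
      have hx' : (x : C ⧸ D.Z) ∈ normalizer (W : Set (C ⧸ D.Z)) := by
        rw [Subgroup.mem_normalizer_iff]
        intro h
        refine ⟨fun hh => ?_, fun hh => ?_⟩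
        · have := (Subgroup.mem_normalizer_iff.1 hx ⟨h, hWc c hc hh⟩).1 hh
          exact this
        · have hhX : (x : C ⧸ D.Z) * h * (x : C ⧸ D.Z)⁻¹ ∈ X := hWc c hc hh
          have hX : h ∈ X := by
            have := mul_mem (mul_mem (inv_mem x.2) hhX) x.2
            simpa [mul_assoc] using this
          exact (Subgroup.mem_normalizer_iff.1 hx ⟨h, hX⟩).2 hh
      exact Subtype.ext (hkey x hx' ⟨c, hc, hc1, mem_centralizer_singleton_iff.1 x.2⟩ w hw).symm
    refine ⟨hsol, ?_⟩
    have h := congrArg (Subgroup.map X.subtype) htop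
    rw [Subgroup.map_sup, Sylow.coe_subtype, map_subgroupOf_eq_of_le (hWc c hc), ← MonoidHom.range_eq_map,
      range_subtype] at h
    exact h.ge
  have hA : Cfsg.IsElementaryAbelian 2 W :=
    ⟨⟨⟨fun a b => Subtype.ext (D.W_comm a.2 b.2)⟩⟩, fun a ha => by rw [pow_two]; exact D.W_two ha⟩
  have h16 : 2 ^ 4 ≤ Nat.card W := by
    rw [hcard, D.card, ← pow_mul]
    exact Nat.pow_le_pow_right two_pos (by have := D.two_le; omega)
  have hθ := Cfsg.Agent.S1279.result 2 W hA
    ((Nat.pow_le_pow_right two_pos (by norm_num)).trans h16) fun a ha ha1 => (hC a ha ha1).1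
  obtain ⟨-, hΘodd⟩ := SolvSig.isSolvable_signalizerClosure hA
    ((Nat.pow_le_pow_right two_pos (by norm_num)).trans h16) hθ
  set Θ := Cfsg.signalizerClosure W (fun a => Cfsg.centralizerPPrimeCore 2 a) with hΘ
  have hθle : ∀ c ∈ W, c ≠ 1 → Cfsg.centralizerPPrimeCore 2 c ≤ Θ := fun c hc hc1 =>
    le_iSup (fun a : {a : C ⧸ D.Z // a ∈ W ∧ a ≠ 1} => Cfsg.centralizerPPrimeCore 2 (a : C ⧸ D.Z))
      ⟨c, hc, hc1⟩
  have hWΘ : W ≤ normalizer (Θ : Set (C ⧸ D.Z)) := by
    have hstep : ∀ b ∈ W, Θ.map (MulAut.conj b).toMonoidHom ≤ Θ := by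
      intro b hb
      rw [hΘ, Cfsg.signalizerClosure, Subgroup.map_iSup]
      refine iSup_le fun a => le_trans ?_ (le_iSup _ a)
      rintro _ ⟨x, hx, rfl⟩
      exact hθ.1.2.2.1 a a.2.1 a.2.2 b hb x hx
    intro b hb
    rw [Subgroup.mem_normalizer_iff]
    intro h
    refine ⟨fun hh => hstep b hb ⟨h, hh, rfl⟩, fun hh => ?_⟩
    have := hstep b⁻¹ (inv_mem hb) ⟨_, hh, rfl⟩
    simpa [mul_assoc] using this
  set M : Subgroup (C ⧸ D.Z) :=
    if Θ = ⊥ then normalizer (W : Set (C ⧸ D.Z)) else normalizer (Θ : Set (C ⧸ D.Z)) with hM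
  have hWM : W ≤ M := by
    rw [hM]
    split_ifs with h
    · exact le_normalizer
    · exact hWΘ
  have hCM : ∀ c ∈ W, c ≠ 1 → centralizer {c} ≤ M := by
    intro c hc hc1
    refine (hC c hc hc1).2.trans (sup_le ?_ hWM)
    rw [hM]
    split_ifs with h
    · exact (hθle c hc hc1).trans (h.trans_le bot_le)
    · exact (hθle c hc hc1).trans le_normalizer
  have hMne : M ≠ ⊤ := by
    rw [hM]
    split_ifs with h
    · intro hn
      haveI : W.Normal := normalizer_eq_top_iff.1 hn
      apply hns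
      haveI : Group.IsNilpotent ↥W := D.W.isPGroup'.isNilpotent
      haveI : Group.IsSolvable ((C ⧸ D.Z) ⧸ W) := Cfsg.Agent.S0205.result (by
        rw [← Nat.not_even_iff_odd, even_iff_two_dvd]
        exact D.W.not_dvd_index)
      exact Group.isSolvable_of_ker_le_range W.subtype (QuotientGroup.mk' W)
        (by rw [QuotientGroup.ker_mk', range_subtype])
    · intro hn
      haveI := normalizer_eq_top_iff.1 hn
      exact h (le_bot_iff.1 ((PLocal.le_pPrimeCore (p := 2)
        (Nat.Coprime.symm ((Nat.Prime.coprime_iff_not_dvd Nat.prime_two).2 hΘodd))).trans_eq hcore))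
  -- involutions of `M`
  have hMinv : ∀ y ∈ M, y * y = 1 → y ≠ 1 → centralizer {y} ≤ M := by
    intro y hy hy2 hy1 z hz
    obtain ⟨m, hm, hmy⟩ := exists_conj_into D.W hWM hy hy2
    have hc1 : m * y * m⁻¹ ≠ 1 := fun h => hy1 (conj_eq_one_iff.1 h)
    have hmz : m * z * m⁻¹ ∈ M := hCM _ hmy hc1 (mem_centralizer_singleton_iff.2 (by
      have := mem_centralizer_singleton_iff.1 hz
      calc m * z * m⁻¹ * (m * y * m⁻¹) = m * (z * y) * m⁻¹ := by group
        _ = m * (y * z) * m⁻¹ := by rw [this]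
        _ = m * y * m⁻¹ * (m * z * m⁻¹) := by group))
    have := mul_mem (mul_mem (inv_mem hm) hmz) hm
    simpa [mul_assoc] using this
  by_cases hout : ∃ b, b * b = 1 ∧ b ∉ M
  · obtain ⟨b, hb2, hbM⟩ := hout
    have hconj : ∀ a ∈ W, a ≠ 1 → IsConj a b := by
      intro a ha ha1
      by_contra hnc
      obtain ⟨z, hz1, hz2, haz, hbz⟩ := exists_commuting_involution (D.W_two ha) hb2 hnc
      have hzM : z ∈ M := hCM a ha ha1 (mem_centralizer_singleton_iff.2 haz.symm)
      exact hbM (hMinv z hzM hz2 hz1 (mem_centralizer_singleton_iff.2 hbz))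
    obtain ⟨e, he, e', he', hne1, hne2, hne3⟩ : ∃ e ∈ D.Z, ∃ e' ∈ D.Z, e ≠ 1 ∧ e' ≠ 1 ∧ e ≠ e' := by
      have h4 : 4 ≤ Nat.card D.Z := by
        rw [D.card]
        exact (by norm_num : 4 ≤ 2 ^ 2).trans (Nat.pow_le_pow_right two_pos D.two_le)
      haveI : Nontrivial D.Z := Finite.one_lt_card_iff_nontrivial.1 (by omega)
      obtain ⟨e, he⟩ := exists_ne (1 : D.Z)
      by_contra hcon
      push Not at hcon
      have hsub : ∀ x : D.Z, x = 1 ∨ x = e := by
        intro x
        by_cases hx : x = 1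
        · exact Or.inl hx
        · exact Or.inr (Subtype.ext (hcon e e.2 x x.2 (fun h => he (Subtype.ext h))
            (fun h => hx (Subtype.ext h))).symm)
      have : Nat.card D.Z ≤ 2 := by
        have := Nat.card_le_card_of_surjective (fun i : Bool => if i then e else 1) (fun x => by
          rcases hsub x with h | h
          · exact ⟨false, h.symm⟩
          · exact ⟨true, h.symm⟩)
        simpa [Nat.card_eq_fintype_card] using this
      omega
    obtain ⟨a, ha, ha1, hae⟩ := hsurj e he hne1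
    obtain ⟨a', ha', ha1', hae'⟩ := hsurj e' he' hne2
    obtain ⟨g, hg⟩ := isConj_iff.1 ((hconj a ha ha1).trans (hconj a' ha' ha1').symm)
    apply hne3
    rw [← hae, ← hae', ← hg, D.sqf_conj (D.sqf_mem ha)]
  · push Not at hout
    set T : Set (C ⧸ D.Z) := {y | y * y = 1} with hT
    set N := closure T with hN
    haveI hNn : N.Normal := by
      refine ⟨fun x hx g => ?_⟩
      have hmap : N.map (MulAut.conj g).toMonoidHom ≤ N := by
        rw [hN, MonoidHom.map_closure, closure_le]
        rintro _ ⟨y, hy, rfl⟩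
        apply Subgroup.subset_closure
        show (MulAut.conj g).toMonoidHom y * (MulAut.conj g).toMonoidHom y = 1
        rw [← map_mul, show y * y = 1 from hy, map_one]
      exact hmap ⟨x, hx, rfl⟩
    have hNM : N ≤ M := (closure_le _).2 fun y hy => hout y hy
    have hWN : W ≤ N := fun w hw => subset_closure (D.W_two hw)
    by_cases hΘ0 : Θ = ⊥
    · -- `W` is the set of involutions
      have hTW : N ≤ W := (closure_le _).2 fun y hy => by
        have hyM : y ∈ normalizer (W : Set (C ⧸ D.Z)) := by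
          have := hout y hy
          rwa [hM, if_pos hΘ0] at this
        obtain ⟨m, hm, hmy⟩ := exists_conj_into D.W le_normalizer hyM hy
        exact (Subgroup.mem_normalizer_iff.1 hm y).2 hmy
      apply hMne
      rw [hM, if_pos hΘ0, ← le_antisymm hTW hWN]
      exact normalizer_eq_top_iff.2 hNn
    · set K := centralizer (N : Set (C ⧸ D.Z))
      haveI : K.Normal := Subgroup.normal_centralizer
      have hθK : Θ ≤ K := by
        have hM' : M = normalizer (Θ : Set (C ⧸ D.Z)) := by rw [hM, if_neg hΘ0]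
        have hbot : N ⊓ Θ = ⊥ := by
          have hn : ((N ⊓ Θ).subgroupOf N).Normal := by
            refine ⟨fun x hx g => mem_subgroupOf.2 (Subgroup.mem_inf.2 ⟨(g * x * g⁻¹).2, ?_⟩)⟩
            exact (Subgroup.mem_normalizer_iff.1 (hM'.le (hNM g.2)) x).1 (Subgroup.mem_inf.1 (mem_subgroupOf.1 hx)).2
          have hsn : (N ⊓ Θ).IsSubnormal := Subgroup.IsSubnormal.step _ N inf_le_left
            hNn.isSubnormal hn
          refine le_bot_iff.1 ((PLocal.le_pPrimeCore_of_isSubnormal hsn ?_).trans_eq hcore)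
          exact Nat.Coprime.coprime_dvd_left (card_dvd_of_le inf_le_right)
            (Nat.Coprime.symm ((Nat.Prime.coprime_iff_not_dvd Nat.prime_two).2 hΘodd))
        intro t ht u hu
        replace hu : u ∈ N := hu
        have hc : u * t * u⁻¹ * t⁻¹ ∈ N ⊓ Θ := by
          refine Subgroup.mem_inf.2 ⟨?_, mul_mem ((Subgroup.mem_normalizer_iff.1 (hM'.le (hNM hu)) t).1 ht) (inv_mem ht)⟩
          rw [show u * t * u⁻¹ * t⁻¹ = u * (t * u⁻¹ * t⁻¹) by group]
          exact mul_mem hu (hNn.conj_mem _ (inv_mem hu) t)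
        rw [hbot, mem_bot, mul_inv_eq_one, mul_inv_eq_iff_eq_mul] at hc
        exact hc
      obtain ⟨S⟩ := (inferInstance : Nonempty (Sylow 2 K))
      have hS : (S : Subgroup K) ≤ center K := by
        intro s hs
        obtain ⟨Q, hQ⟩ := (S.isPGroup'.map K.subtype).exists_le_sylow
        obtain ⟨g, hg⟩ := MulAction.exists_smul_eq (C ⧸ D.Z) Q D.W
        have hsN : (s : C ⧸ D.Z) ∈ N := by
          have h1 : g * s * g⁻¹ ∈ W := by
            have : g * s * g⁻¹ ∈ ((g • Q : Sylow 2 (C ⧸ D.Z)) : Subgroup (C ⧸ D.Z)) := by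
              rw [Sylow.coe_subgroup_smul]
              exact smul_mem_pointwise_smul (s : C ⧸ D.Z) (MulAut.conj g) _ (hQ ⟨s, hs, rfl⟩)
            rwa [hg] at this
          have h2 := hNn.conj_mem _ (hWN h1) g⁻¹
          simpa [mul_assoc] using h2
        exact mem_center_iff.2 fun k => Subtype.ext ((k.2 _ hsN).symm)
      obtain ⟨k, hk⟩ := IsPGroup.iff_card.1 ((isPGroup_of_central hcore S hS).to_le hθK)
      rcases k with _ | k
      · exact hΘ0 (card_eq_one.1 hk)
      · exact hΘodd ⟨2 ^ k, by rw [hk, pow_succ, mul_comm]⟩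

/-- The central configuration is solvable. -/
theorem isSolvable (D : Central C) : Group.IsSolvable C := by
  haveI := D.isSolvable_quotient
  letI : CommGroup ↥D.Z := { (inferInstance : Group ↥D.Z) with
    mul_comm := fun a b => Subtype.ext (D.comm_z b.2 a) }
  exact Group.isSolvable_of_ker_le_range D.Z.subtype (QuotientGroup.mk' D.Z)
    (by rw [QuotientGroup.ker_mk', range_subtype])

end Central

end CfsgLib.Pyramidal
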