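import Cfsg.Agent.S3776
import Cfsg.Agent.Solvable.Frattini

/-!
# A 2-group with an automorphism whose powers are transitive on involutions

Either it is abelian, or its centre consists of the elements squaring to `1` and contains all
squares and commutators.
-/

set_option autoImplicit false

namespace CfsgLib.Pyramidal

open Subgroup
open scoped commutatorElement

/-- The conclusion of the Suzuki 2-group theorem that is used here. -/
structure IsSpecialTwo (P : Type*) [Group P] : Prop where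
  center_iff : ∀ x : P, x ∈ center P ↔ x * x = 1
  sq_mem : ∀ x : P, x * x ∈ center P
  comm_mem : ∀ x y : P, (x * y)⁻¹ * (y * x) ∈ center P

/-- Abelian or special. -/
theorem abelian_or_special {P : Type*} [Group P] [Finite P] (hP : IsPGroup 2 P) (β : MulAut P)
    (htwo : ∃ x y : P, x ≠ y ∧ x ≠ 1 ∧ x * x = 1 ∧ y ≠ 1 ∧ y * y = 1)
    (htr : ∀ x y : P, x ≠ 1 → x * x = 1 → y ≠ 1 → y * y = 1 → ∃ i : ℤ, (β ^ i) x = y) :
    (∀ a b : P, a * b = b * a) ∨ IsSpecialTwo P := by
  by_cases hab : ∀ a b : P, a * b = b * a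
  · exact Or.inl hab
  haveI : Fact (Nat.Prime 2) := ⟨Nat.prime_two⟩
  haveI : Group.IsSolvable ↥(zpowers β) := Group.isSolvable_of_comm fun a b => by
    obtain ⟨i, hi⟩ := mem_zpowers_iff.1 a.2
    obtain ⟨j, hj⟩ := mem_zpowers_iff.1 b.2
    refine Subtype.ext ?_
    rw [Subgroup.coe_mul, Subgroup.coe_mul, ← hi, ← hj, ← zpow_add, ← zpow_add, add_comm]
  obtain ⟨x, y, hxy, hx, hx2, hy, hy2⟩ := htwo
  obtain ⟨hcf, hfz, hiff⟩ := Cfsg.Agent.S3776.result hP (fun h => hab fun a b => h.is_comm.comm a b)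
    ⟨x, y, hxy, hx, (sq x).trans hx2, hy, (sq y).trans hy2⟩
    ⟨zpowers β, inferInstance, fun a b ha ha2 hb hb2 => by
      obtain ⟨i, hi⟩ := htr a b ha (by rwa [← sq]) hb (by rwa [← sq])
      exact ⟨β ^ i, zpow_mem_zpowers β i, hi⟩⟩
  refine Or.inr ⟨fun a => by rw [hiff a, sq], fun a => ?_, fun a b => ?_⟩
  · rw [← hfz, ← sq]
    exact CfsgLib.Solvable.pow_mem_frattini hP a
  · rw [← hfz, ← hcf, show (a * b)⁻¹ * (b * a) = ⁅b⁻¹, a⁻¹⁆ by rw [commutatorElement_def]; group]
    exact commutator_mem_commutator (mem_top _) (mem_top _)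

end CfsgLib.Pyramidal
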