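import Cfsg.Agent.Pyramidal.Abelian
import Cfsg.Agent.Pyramidal.Fusion
import Cfsg.Agent.Pyramidal.TwoGroup

/-!
# The centraliser of the involutions is solvable

If all involutions lie in an elementary abelian normal subgroup `E` of order at least four, the
powers of one element are transitive on them, and the odd core is trivial, then the centraliser
of `E` is solvable.
-/

set_option autoImplicit false
set_option linter.unusedSectionVars false
set_option linter.style.haveILetI false

namespace CfsgLib.Pyramidal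

open Subgroup

variable {H : Type*} [Group H] [Finite H]

/-- **Lemma A.** -/
theorem centralizer_solvable (E : Subgroup H) [E.Normal] (hinv : ∀ x : H, x * x = 1 → x ∈ E)
    (hexp : ∀ e ∈ E, e * e = 1) {n : ℕ} (hn : 2 ≤ n) (hcard : Nat.card E = 2 ^ n) (g : H)
    (htr : ∀ e ∈ E, ∀ e' ∈ E, e ≠ 1 → e' ≠ 1 → ∃ i : ℤ, g ^ i * e * (g ^ i)⁻¹ = e')
    (hO : Cfsg.oddCore H = ⊥) : Group.IsSolvable ↥(centralizer (E : Set H)) := by
  classical
  haveI : Fact (Nat.Prime 2) := ⟨Nat.prime_two⟩
  set C := centralizer (E : Set H) with hC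
  have hEC : E ≤ C := fun e he f hf => by
    have h1 : (f * e) * (f * e) = 1 := hexp _ (E.mul_mem hf he)
    have h2 : f⁻¹ = f := inv_eq_of_mul_eq_one_right (hexp f hf)
    have h3 : e⁻¹ = e := inv_eq_of_mul_eq_one_right (hexp e he)
    rw [← inv_eq_of_mul_eq_one_right h1, mul_inv_rev, h2, h3]
  let S : Sylow 2 C := Classical.arbitrary _
  -- move `g` into the normaliser of `S`
  obtain ⟨y, hy, c, hc, hyc⟩ : ∃ y ∈ normalizer (((S : Subgroup C).map C.subtype : Subgroup H) : Set H),
      ∃ c ∈ C, y * c = g := by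
    have h : g ∈ normalizer (((S : Subgroup C).map C.subtype : Subgroup H) : Set H) ⊔ C := by
      rw [Sylow.normalizer_sup_eq_top S]; exact mem_top g
    exact mem_sup_of_normal_right.1 h
  have htr' : ∀ e ∈ E, ∀ e' ∈ E, e ≠ 1 → e' ≠ 1 → ∃ i : ℤ, y ^ i * e * (y ^ i)⁻¹ = e' := by
    intro e he e' he' h h'
    obtain ⟨i, hi⟩ := htr e he e' he' h h'
    refine ⟨i, ?_⟩
    have hmem : (y ^ i)⁻¹ * g ^ i ∈ C := by
      have h1 : QuotientGroup.mk' C g = QuotientGroup.mk' C y := by
        rw [← hyc, map_mul, show QuotientGroup.mk' C c = 1 from (QuotientGroup.eq_one_iff c).2 hc,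
          mul_one]
      refine (QuotientGroup.eq_one_iff _).1 ?_
      show QuotientGroup.mk' C ((y ^ i)⁻¹ * g ^ i) = 1
      rw [map_mul, map_inv, map_zpow, map_zpow, h1, inv_mul_cancel]
    rw [← hi]
    obtain ⟨z, hz, hzg⟩ : ∃ z ∈ C, g ^ i = y ^ i * z := ⟨_, hmem, (mul_inv_cancel_left _ _).symm⟩
    calc y ^ i * e * (y ^ i)⁻¹ = y ^ i * (z * e * z⁻¹) * (y ^ i)⁻¹ := by
          rw [← hz e he, mul_inv_cancel_right]
      _ = g ^ i * e * (g ^ i)⁻¹ := by rw [hzg]; group
  have hmemS : ∀ s : C, s ∈ (S : Subgroup C) →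
      MulAut.conjNormal y s ∈ (S : Subgroup C) := by
    intro s hs
    obtain ⟨t, ht, hts⟩ := (Subgroup.mem_normalizer_iff.1 hy s).1 ⟨s, hs, rfl⟩
    have h : MulAut.conjNormal y s = t :=
      Subtype.ext ((MulAut.conjNormal_apply y s).trans hts.symm)
    rw [h]
    exact ht
  have hinvC : ∀ x : C, x * x = 1 → x ∈ center C := fun x hx =>
    mem_center_iff.2 fun k => Subtype.ext ((k.2 x (hinv _ (congrArg Subtype.val hx))).symm)
  set Z : Subgroup C := E.subgroupOf C with hZ
  have hZcard : Nat.card Z = 2 ^ n := by rw [← hcard]; exact Nat.card_congr (subgroupOfEquivOfLe hEC).toEquiv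
  haveI : Z.Normal := inferInstance
  have hZS : Z ≤ (S : Subgroup C) := by
    rw [← S.3 (S.isPGroup'.to_sup_of_normal_right (IsPGroup.of_card hZcard)) le_sup_left]
    exact le_sup_right
  have hzpow : ∀ i : ℤ, ∀ s : C, ((MulAut.conjNormal (y ^ i) s : C) : H) = y ^ i * s * (y ^ i)⁻¹ :=
    fun i s => MulAut.conjNormal_apply _ _
  have hmemSi : ∀ (i : ℤ) (s : C), s ∈ (S : Subgroup C) →
      MulAut.conjNormal (y ^ i) s ∈ (S : Subgroup C) := by
    intro i s hs
    obtain ⟨t, ht, hts⟩ :=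
      (Subgroup.mem_normalizer_iff.1 (zpow_mem hy i) s).1 ⟨s, hs, rfl⟩
    have h : MulAut.conjNormal (y ^ i) s = t := Subtype.ext ((hzpow i s).trans hts.symm)
    rw [h]
    exact ht
  -- the automorphism of `S`
  let β : MulAut ↥(S : Subgroup C) :=
    { toFun := fun s => ⟨MulAut.conjNormal y s.1, hmemS _ s.2⟩
      invFun := fun s => ⟨MulAut.conjNormal (y ^ (-1 : ℤ)) s.1, hmemSi _ _ s.2⟩
      left_inv := fun s => Subtype.ext (by
        show MulAut.conjNormal (y ^ (-1 : ℤ)) (MulAut.conjNormal y s.1) = s.1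
        rw [← MulAut.mul_apply, ← map_mul, zpow_neg_one, inv_mul_cancel, map_one]; rfl)
      right_inv := fun s => Subtype.ext (by
        show MulAut.conjNormal y (MulAut.conjNormal (y ^ (-1 : ℤ)) s.1) = s.1
        rw [← MulAut.mul_apply, ← map_mul, zpow_neg_one, mul_inv_cancel, map_one]; rfl)
      map_mul' := fun s t => Subtype.ext (map_mul (MulAut.conjNormal y) s.1 t.1) }
  have hβn : ∀ (m : ℕ) (s : ↥(S : Subgroup C)),
      (((β ^ m) s : ↥(S : Subgroup C)) : C) = MulAut.conjNormal (y ^ m) (s : C) := by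
    intro m
    induction m with
    | zero => intro s; rw [pow_zero, pow_zero, map_one]; rfl
    | succ m ih =>
      intro s
      rw [pow_succ', MulAut.mul_apply, pow_succ', map_mul, MulAut.mul_apply]
      show MulAut.conjNormal y (((β ^ m) s : ↥(S : Subgroup C)) : C) = _
      rw [ih]
  have htwo : ∃ x z : ↥(S : Subgroup C), x ≠ z ∧ x ≠ 1 ∧ x * x = 1 ∧ z ≠ 1 ∧ z * z = 1 := by
    haveI : Fintype E := Fintype.ofFinite _
    have h3 : 3 ≤ Fintype.card E := by
      rw [← Nat.card_eq_fintype_card, hcard]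
      calc 3 ≤ 2 ^ 2 := by norm_num
        _ ≤ 2 ^ n := Nat.pow_le_pow_right (by norm_num) hn
    obtain ⟨u, v, w, huv, huw, hvw⟩ := Fintype.two_lt_card_iff.1 h3
    obtain ⟨a, b, hab, ha, hb⟩ : ∃ a b : E, a ≠ b ∧ a ≠ 1 ∧ b ≠ 1 := by
      by_cases hu : u = 1
      · exact ⟨v, w, hvw, fun h => huv (hu.trans h.symm), fun h => huw (hu.trans h.symm)⟩
      · by_cases hv : v = 1
        · exact ⟨u, w, huw, hu, fun h => hvw (hv.trans h.symm)⟩
        · exact ⟨u, v, huv, hu, hv⟩
    exact ⟨⟨⟨a, hEC a.2⟩, hZS a.2⟩, ⟨⟨b, hEC b.2⟩, hZS b.2⟩,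
      fun h => hab (Subtype.ext (congrArg (fun t : ↥(S : Subgroup C) => ((t : C) : H)) h)),
      fun h => ha (Subtype.ext (congrArg (fun t : ↥(S : Subgroup C) => ((t : C) : H)) h)),
      Subtype.ext (Subtype.ext (hexp _ a.2)),
      fun h => hb (Subtype.ext (congrArg (fun t : ↥(S : Subgroup C) => ((t : C) : H)) h)),
      Subtype.ext (Subtype.ext (hexp _ b.2))⟩
  have hval1 : ∀ t : ↥(S : Subgroup C), t ≠ 1 → ((t : C) : H) ≠ 1 := fun t h h1 =>
    h (Subtype.ext (Subtype.ext h1))
  rcases abelian_or_special S.isPGroup' β htwo (fun a b ha ha2 hb hb2 => by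
      obtain ⟨i, hi⟩ := htr' _ (hinv _ (congrArg (fun t : ↥(S : Subgroup C) => ((t : C) : H)) ha2))
        _ (hinv _ (congrArg (fun t : ↥(S : Subgroup C) => ((t : C) : H)) hb2)) (hval1 a ha)
        (hval1 b hb)
      -- replace the integer exponent by a natural one
      obtain ⟨m, hm⟩ := mem_powers_iff_mem_zpowers.2 (zpow_mem_zpowers y i)
      have hm' : y ^ m = y ^ i := hm
      refine ⟨(m : ℤ), Subtype.ext (Subtype.ext ?_)⟩
      rw [zpow_natCast, hβn, MulAut.conjNormal_apply, hm']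
      exact hi) with hab | hsp
  · exact isSolvable_of_abelian_sylow hinvC S fun a b ha hb =>
      congrArg Subtype.val (hab ⟨a, ha⟩ ⟨b, hb⟩)
  · have hbot : Cfsg.oddCore C = ⊥ := by
      have := (PLocal.pPrimeCore_map_subtype_le (p := 2) C).trans_eq hO
      rwa [le_bot_iff, map_eq_bot_iff_of_injective _ C.subtype_injective] at this
    have hmemZ : ∀ s : ↥(S : Subgroup C), s ∈ center ↥(S : Subgroup C) → (s : C) ∈ Z := fun s hs =>
      hinv _ (congrArg (fun t : ↥(S : Subgroup C) => ((t : C) : H)) ((hsp.center_iff s).1 hs))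
    exact Central.isSolvable
      { Z := Z
        S := S
        central := fun z hz => hinvC z (Subtype.ext (hexp _ hz))
        sq_one := fun z hz => Subtype.ext (hexp _ hz)
        mem_of_sq := fun x hx => hinv _ (congrArg Subtype.val hx)
        n := n
        two_le := hn
        card := hZcard
        sq_mem := fun x hx => hmemZ _ (hsp.sq_mem ⟨x, hx⟩)
        comm_mem := fun x hx z hz => hmemZ _ (hsp.comm_mem ⟨x, hx⟩ ⟨z, hz⟩)
        core := hbot
        trans := fun e he e' he' h h' => by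
          obtain ⟨i, hi⟩ := htr' e he e' he' (fun h1 => h (Subtype.ext h1))
            (fun h1 => h' (Subtype.ext h1))
          exact ⟨MulAut.conjNormal (y ^ i), fun s hs => hmemSi i s hs,
            Subtype.ext ((hzpow i e).trans hi)⟩ }

end CfsgLib.Pyramidal
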