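import Cfsg.Agent.Pyramidal.Basics

/-!
# All involutions in an elementary abelian subgroup with full automizer

The reduction steps: passing to a two-dimensional smaller space, and to smaller groups.
-/

set_option autoImplicit false
set_option linter.unusedSectionVars false
set_option linter.style.haveILetI false

namespace CfsgLib.Pyramidal

open Subgroup

/-- An elementary abelian subgroup, given by coordinates, holding all involutions. -/
structure Cfg (H : Type*) [Group H] (V : Type*) [AddCommGroup V] where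
  ι : V → H
  map_add : ∀ u v, ι (u + v) = ι u * ι v
  inj : Function.Injective ι
  exp : ∀ v : V, v + v = 0
  inv_mem : ∀ x : H, x * x = 1 → ∃ v, ι v = x

namespace Cfg

variable {H : Type*} [Group H] {V : Type*} [AddCommGroup V] (D : Cfg H V)

/-- Every automorphism is induced by conjugation. -/
def AllLift : Prop := ∀ A : V ≃+ V, ∃ h : H, ∀ v, h * D.ι v * h⁻¹ = D.ι (A v)

theorem ι_zero : D.ι 0 = 1 := by
  have h := D.map_add 0 0
  rw [add_zero] at h
  exact left_eq_mul.1 h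

theorem ι_sq (v : V) : D.ι v * D.ι v = 1 := by rw [← D.map_add, D.exp, D.ι_zero]

theorem ι_inv (v : V) : (D.ι v)⁻¹ = D.ι v := inv_eq_of_mul_eq_one_right (D.ι_sq v)

theorem ι_comm (u v : V) : D.ι u * D.ι v = D.ι v * D.ι u := by
  rw [← D.map_add, ← D.map_add, add_comm]

theorem conj_mem (h : H) (v : V) : ∃ w, D.ι w = h * D.ι v * h⁻¹ :=
  D.inv_mem _ (by rw [conj_mul, D.ι_sq, mul_one, mul_inv_cancel])

/-- The centraliser of the subgroup. -/
def cent : Subgroup H := centralizer (Set.range D.ι)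

theorem mem_cent {c : H} : c ∈ D.cent ↔ ∀ v, D.ι v * c = c * D.ι v :=
  ⟨fun h v => h _ ⟨v, rfl⟩, fun h g hg => by obtain ⟨v, rfl⟩ := hg; exact h v⟩

instance cent_normal : D.cent.Normal :=
  ⟨fun c hc g => D.mem_cent.2 fun v => by
    obtain ⟨w, hw⟩ := D.conj_mem g⁻¹ v
    rw [inv_inv] at hw
    have hv : D.ι v = g * D.ι w * g⁻¹ := by rw [hw]; group
    rw [hv]
    calc g * D.ι w * g⁻¹ * (g * c * g⁻¹) = g * (D.ι w * c) * g⁻¹ := by group
      _ = g * (c * D.ι w) * g⁻¹ := by rw [D.mem_cent.1 hc w]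
      _ = g * c * g⁻¹ * (g * D.ι w * g⁻¹) := by group⟩

theorem ι_mem_cent (v : V) : D.ι v ∈ D.cent := D.mem_cent.2 fun w => D.ι_comm w v

theorem conj_cent {c : H} (hc : c ∈ D.cent) (v : V) : c * D.ι v * c⁻¹ = D.ι v := by
  rw [← D.mem_cent.1 hc v, mul_inv_cancel_right]

theorem mem_cent_of_conj {c : H} (h : ∀ v, c * D.ι v * c⁻¹ = D.ι v) : c ∈ D.cent :=
  D.mem_cent.2 fun v => (mul_inv_eq_iff_eq_mul.1 (h v)).symm

/-- Restriction to a subgroup containing the range. -/
def restrict (K : Subgroup H) (hK : ∀ v, D.ι v ∈ K) : Cfg K V where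
  ι v := ⟨D.ι v, hK v⟩
  map_add u v := Subtype.ext (D.map_add u v)
  inj u v h := D.inj (congrArg Subtype.val h)
  exp := D.exp
  inv_mem x hx := by
    obtain ⟨v, hv⟩ := D.inv_mem x (congrArg Subtype.val hx)
    exact ⟨v, Subtype.ext hv⟩

theorem restrict_allLift (K : Subgroup H) (hK : ∀ v, D.ι v ∈ K)
    (h : ∀ A : V ≃+ V, ∃ k ∈ K, ∀ v, k * D.ι v * k⁻¹ = D.ι (A v)) :
    (D.restrict K hK).AllLift := fun A => by
  obtain ⟨k, hk, hkv⟩ := h A
  exact ⟨⟨k, hk⟩, fun v => Subtype.ext (hkv v)⟩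

/-- The image in a quotient by a normal subgroup of odd order. -/
def quot [Finite H] (N : Subgroup H) [N.Normal] (hN : Odd (Nat.card N)) : Cfg (H ⧸ N) V where
  ι v := QuotientGroup.mk' N (D.ι v)
  map_add u v := by rw [D.map_add, map_mul]
  inj u v h := by
    have hmem : D.ι (u + v) ∈ N := by
      refine (QuotientGroup.eq_one_iff _).1 ?_
      show QuotientGroup.mk' N (D.ι (u + v)) = 1
      have h' : QuotientGroup.mk' N (D.ι u) = QuotientGroup.mk' N (D.ι v) := h
      rw [D.map_add, map_mul, h', ← map_mul, D.ι_sq, map_one]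
    obtain ⟨j, hj⟩ := hN
    have h1 : D.ι (u + v) ^ (2 * j + 1) = 1 := by
      rw [← hj]; exact orderOf_dvd_iff_pow_eq_one.1 (Subgroup.orderOf_dvd_natCard N hmem)
    rw [pow_succ, pow_mul, pow_two, D.ι_sq, one_pow, one_mul, ← D.ι_zero] at h1
    calc u = u + (v + v) := by rw [D.exp, add_zero]
      _ = v := by rw [← add_assoc, D.inj h1, zero_add]
  exp := D.exp
  inv_mem x hx := by
    obtain ⟨x, rfl⟩ := QuotientGroup.mk'_surjective N x
    rw [← map_mul] at hx
    have hmem : x * x ∈ N := (QuotientGroup.eq_one_iff _).1 hx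
    obtain ⟨j, hj⟩ := hN
    obtain ⟨v, hv⟩ := D.inv_mem (x ^ (2 * j + 1)) (by
      rw [← (Commute.refl x).mul_pow, ← hj]; exact orderOf_dvd_iff_pow_eq_one.1 (Subgroup.orderOf_dvd_natCard N hmem))
    refine ⟨v, ?_⟩
    rw [hv, map_pow, pow_succ, pow_mul, pow_two, ← map_mul, hx, one_pow, one_mul]

theorem quot_allLift [Finite H] (N : Subgroup H) [N.Normal] (hN : Odd (Nat.card N))
    (h : D.AllLift) : (D.quot N hN).AllLift := fun A => by
  obtain ⟨g, hg⟩ := h A
  refine ⟨QuotientGroup.mk' N g, fun v => ?_⟩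
  show QuotientGroup.mk' N g * QuotientGroup.mk' N (D.ι v) * (QuotientGroup.mk' N g)⁻¹ = _
  rw [← map_inv, ← map_mul, ← map_mul, hg]
  rfl

/-- Change of coordinates. -/
def comap {V' : Type*} [AddCommGroup V'] (e : V' ≃+ V) : Cfg H V' where
  ι v := D.ι (e v)
  map_add u v := by rw [e.map_add, D.map_add]
  inj u v h := e.injective (D.inj h)
  exp v := e.injective (by rw [e.map_add, e.map_zero, D.exp])
  inv_mem x hx := by
    obtain ⟨v, hv⟩ := D.inv_mem x hx
    exact ⟨e.symm v, by rw [e.apply_symm_apply, hv]⟩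

theorem comap_allLift {V' : Type*} [AddCommGroup V'] (e : V' ≃+ V) (h : D.AllLift) :
    (D.comap e).AllLift := fun A => by
  obtain ⟨g, hg⟩ := h ((e.symm.trans A).trans e)
  exact ⟨g, fun v => (hg (e v)).trans (by
    show D.ι (e (A (e.symm (e v)))) = D.ι (e (A v))
    rw [e.symm_apply_apply])⟩

end Cfg

/-- The plane. -/
abbrev V2 : Type := Fin 2 → ZMod 2

/-- An automorphism of order three of the plane. -/
def rot2 : V2 ≃+ V2 where
  toFun v := ![v 1, v 0 + v 1]
  invFun v := ![v 0 + v 1, v 0]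
  left_inv := by intro v; revert v; decide
  right_inv := by intro v; revert v; decide
  map_add' := by intro u v; revert u v; decide

theorem rot2_three : ∀ v, rot2 (rot2 (rot2 v)) = v := by decide

theorem rot2_fix : ∀ v, rot2 v = v → v = 0 := by decide

/-- **Recursion.** Split off a plane. -/
theorem Cfg.descend {H : Type*} [Group H] [Finite H] {W : Type*} [AddCommGroup W]
    (D : Cfg H (V2 × W)) (hlift : D.AllLift) :
    ∃ (K : Subgroup H) (D' : Cfg K W), D'.AllLift := by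
  classical
  haveI : Fact (Nat.Prime 3) := ⟨Nat.prime_three⟩
  set Y : V2 × W ≃+ V2 × W := rot2.prodCongr (AddEquiv.refl W) with hY
  have hYW : ∀ (i : ℕ) (w : W), (⇑Y)^[i] (0, w) = (0, w) := fun i w =>
    Function.iterate_fixed (Prod.ext (map_zero rot2) rfl) i
  have hY3 : ∀ v, (⇑Y)^[3] v = v := fun v => Prod.ext (rot2_three v.1) rfl
  have hY3k : ∀ k v, (⇑Y)^[3 * k] v = v := fun k v => by
    rw [Function.iterate_mul, show (⇑Y)^[3] = id from funext hY3, Function.iterate_id]; rfl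
  -- elements acting as powers of `Y`
  let M : Subgroup H :=
    { carrier := {h | ∃ i : ℕ, ∀ v, h * D.ι v * h⁻¹ = D.ι ((⇑Y)^[i] v)}
      mul_mem' := by
        rintro a b ⟨i, hi⟩ ⟨j, hj⟩
        refine ⟨i + j, fun v => ?_⟩
        rw [Function.iterate_add_apply, ← hi, ← hj]
        group
      one_mem' := ⟨0, fun v => by simp⟩
      inv_mem' := by
        rintro a ⟨i, hi⟩
        refine ⟨2 * i, fun v => ?_⟩
        have h := hi ((⇑Y)^[2 * i] v)
        rw [← Function.iterate_add_apply, show i + 2 * i = 3 * i by ring, hY3k] at h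
        rw [← h]
        group }
  obtain ⟨R⟩ : Nonempty (Sylow 3 M) := inferInstance
  set R' : Subgroup H := (R : Subgroup M).map M.subtype with hR'
  set K := normalizer (R' : Set H) with hK
  have hfixM : ∀ m ∈ M, ∀ w, m * D.ι (0, w) * m⁻¹ = D.ι (0, w) := by
    rintro m ⟨i, hi⟩ w
    rw [hi, hYW]
  have hWK : ∀ w, D.ι (0, w) ∈ K := by
    intro w
    refine Subgroup.mem_normalizer_iff.2 fun x => ?_
    have hcomm : ∀ x ∈ R', D.ι (0, w) * x * (D.ι (0, w))⁻¹ = x := by
      intro x hx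
      obtain ⟨m, -, rfl⟩ := hx
      have h := hfixM _ m.2 w
      rw [mul_inv_eq_iff_eq_mul] at h
      show D.ι (0, w) * (m : H) * (D.ι (0, w))⁻¹ = (m : H)
      rw [← h, mul_inv_cancel_right]
    refine ⟨fun hx => by rw [hcomm x hx]; exact hx, fun hx => ?_⟩
    have h := hcomm _ hx
    have h' : D.ι (0, w) * x * (D.ι (0, w))⁻¹ = x := by
      calc D.ι (0, w) * x * (D.ι (0, w))⁻¹
          = (D.ι (0, w))⁻¹ * (D.ι (0, w) * (D.ι (0, w) * x * (D.ι (0, w))⁻¹) *
              (D.ι (0, w))⁻¹) * D.ι (0, w) := by group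
        _ = (D.ι (0, w))⁻¹ * (D.ι (0, w) * x * (D.ι (0, w))⁻¹) * D.ι (0, w) := by rw [h]
        _ = x := by group
    rwa [h'] at hx
  -- an element of `R` moving the plane
  obtain ⟨r, hr, i, hi, hri⟩ : ∃ r ∈ R', ∃ i, ¬ 3 ∣ i ∧ ∀ v, r * D.ι v * r⁻¹ = D.ι ((⇑Y)^[i] v) := by
    obtain ⟨y, hy⟩ := hlift Y
    have hypow : ∀ (k : ℕ) v, y ^ k * D.ι v * (y ^ k)⁻¹ = D.ι ((⇑Y)^[k] v) := by
      intro k
      induction k with
      | zero => intro v; simp
      | succ k ih => intro v; rw [Function.iterate_succ_apply', ← hy, ← ih, pow_succ']; group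
    obtain ⟨a, b, hb, hab⟩ := Nat.exists_eq_pow_mul_and_not_dvd (orderOf_pos y).ne' 3 (by norm_num)
    have hyb : y ^ b ∈ M := ⟨b, hypow b⟩
    have hord : (⟨y ^ b, hyb⟩ : M) ^ 3 ^ a = 1 := Subtype.ext (by
      show (y ^ b) ^ 3 ^ a = 1
      rw [← pow_mul, mul_comm, ← hab, pow_orderOf_eq_one])
    have hp : IsPGroup 3 (zpowers (⟨y ^ b, hyb⟩ : M)) := by
      obtain ⟨j, -, hj⟩ := (Nat.dvd_prime_pow Nat.prime_three).1 (orderOf_dvd_of_pow_eq_one hord)
      exact IsPGroup.of_card ((Nat.card_zpowers _).trans hj)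
    obtain ⟨S, hS⟩ := hp.exists_le_sylow
    obtain ⟨m, hm⟩ := MulAction.exists_smul_eq M S R
    have hmem : m * ⟨y ^ b, hyb⟩ * m⁻¹ ∈ (R : Subgroup M) := by
      rw [← hm, Sylow.coe_subgroup_smul]
      exact ⟨_, hS (mem_zpowers _), rfl⟩
    refine ⟨_, ⟨_, hmem, rfl⟩, b, hb, fun v => ?_⟩
    obtain ⟨j, hj⟩ := m.2
    show (m : H) * y ^ b * (m : H)⁻¹ * D.ι v * ((m : H) * y ^ b * (m : H)⁻¹)⁻¹ = _
    have hj' : ∀ v, (m : H)⁻¹ * D.ι v * (m : H) = D.ι ((⇑Y)^[2 * j] v) := fun v => by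
      have h := hj ((⇑Y)^[2 * j] v)
      rw [← Function.iterate_add_apply, show j + 2 * j = 3 * j by ring, hY3k] at h
      rw [← h]; group
    calc (m : H) * y ^ b * (m : H)⁻¹ * D.ι v * ((m : H) * y ^ b * (m : H)⁻¹)⁻¹
        = (m : H) * (y ^ b * ((m : H)⁻¹ * D.ι v * (m : H)) * (y ^ b)⁻¹) * (m : H)⁻¹ := by group
      _ = _ := by
        rw [hj', hypow, hj, ← Function.iterate_add_apply, ← Function.iterate_add_apply,
          show j + b + 2 * j = b + 3 * j by ring, Function.iterate_add_apply, hY3k]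
  -- involutions of `K`
  have hKinv : ∀ v, D.ι v ∈ K → v.1 = 0 := by
    intro v hv
    have h1 : D.ι (v + (⇑Y)^[i] v) ∈ R' := by
      have h : D.ι v * r * (D.ι v)⁻¹ * r⁻¹ ∈ R' :=
        R'.mul_mem ((Subgroup.mem_normalizer_iff.1 hv r).1 hr) (R'.inv_mem hr)
      rwa [D.ι_inv, mul_assoc (D.ι v * r), mul_assoc (D.ι v), ← mul_assoc r, hri, ← D.map_add] at h
    have h2 : v + (⇑Y)^[i] v = 0 := by
      obtain ⟨m, hm, hmv⟩ := h1
      obtain ⟨k, hk⟩ := R.isPGroup' ⟨m, hm⟩
      obtain ⟨l, hl⟩ := Nat.not_even_iff_odd.1 fun h : Even (3 ^ k) =>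
        absurd (h.two_dvd) (by rw [Nat.prime_two.coprime_iff_not_dvd.symm]; exact Nat.Coprime.pow_right k (by norm_num))
      have hk' : D.ι (v + (⇑Y)^[i] v) ^ (2 * l + 1) = 1 := by
        rw [← hl, ← hmv]
        exact congrArg (fun t : ↥(R : Subgroup M) => ((t : M) : H)) hk
      rw [pow_succ, pow_mul, pow_two, D.ι_sq, one_pow, one_mul, ← D.ι_zero] at hk'
      exact D.inj hk'
    have h3 : (⇑Y)^[i] v = v := by
      calc (⇑Y)^[i] v = (v + v) + (⇑Y)^[i] v := by rw [D.exp, zero_add]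
        _ = v := by rw [add_assoc, h2, add_zero]
    have h4 : Y v = v := by
      obtain ⟨k, hk⟩ : ∃ k, i = 3 * k + 1 ∨ i = 3 * k + 2 := ⟨i / 3, by omega⟩
      rcases hk with rfl | rfl
      · rw [Function.iterate_add_apply, hY3k, Function.iterate_one] at h3; exact h3
      · rw [Function.iterate_add_apply, hY3k] at h3
        calc Y v = Y ((⇑Y)^[2] v) := by rw [h3]
          _ = v := hY3 v
    exact rot2_fix v.1 (congrArg Prod.fst h4)
  refine ⟨K,
    { ι := fun w => ⟨D.ι (0, w), hWK w⟩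
      map_add := fun u w => Subtype.ext (by
        show D.ι (0, u + w) = D.ι (0, u) * D.ι (0, w)
        rw [← D.map_add, Prod.mk_add_mk, add_zero])
      inj := fun u w h => congrArg Prod.snd (D.inj (congrArg Subtype.val h))
      exp := fun w => congrArg Prod.snd (D.exp (0, w))
      inv_mem := fun x hx => by
        obtain ⟨v, hv⟩ := D.inv_mem x (congrArg Subtype.val hx)
        refine ⟨v.2, Subtype.ext ?_⟩
        show D.ι (0, v.2) = x
        rw [← hv, ← hKinv v (hv ▸ x.2)] }, fun B => ?_⟩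
  -- lifts, by the Frattini argument
  set A : V2 × W ≃+ V2 × W := (AddEquiv.refl V2).prodCongr B with hA
  obtain ⟨b, hb⟩ := hlift A
  have hcommA : ∀ (i : ℕ) v, A ((⇑Y)^[i] v) = (⇑Y)^[i] (A v) := by
    intro i
    induction i with
    | zero => exact fun v => rfl
    | succ i ih =>
      intro v
      rw [Function.iterate_succ_apply', Function.iterate_succ_apply', ← ih]
      rfl
  have hconjM : ∀ g : H, (∀ v, ∃ v', D.ι v' = g * D.ι v * g⁻¹ ∧
      ∀ i, g⁻¹ * D.ι ((⇑Y)^[i] v') * g = D.ι ((⇑Y)^[i] v)) → ∀ m ∈ M, g⁻¹ * m * g ∈ M := by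
    rintro g hg m ⟨i, hi⟩
    refine ⟨i, fun v => ?_⟩
    obtain ⟨v', hv', hback⟩ := hg v
    rw [← hback i, ← hi, hv']
    group
  have hbN : b ∈ normalizer (M : Set H) := by
    refine Subgroup.mem_normalizer_iff.2 fun m => ⟨fun hm => ?_, fun hm => ?_⟩
    · have h := hconjM b⁻¹ (fun v => ⟨A.symm v, by
          have h := hb (A.symm v)
          rw [A.apply_symm_apply] at h
          rw [← h]; group, fun i => by
          rw [inv_inv, hb, hcommA, A.apply_symm_apply]⟩) m hm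
      rwa [inv_inv] at h
    · have h := hconjM b (fun v => ⟨A v, (hb v).symm, fun i => by
        rw [← hcommA, ← hb]; group⟩) _ hm
      rwa [show b⁻¹ * (b * m * b⁻¹) * b = m by group] at h
  obtain ⟨k, hk, m, hm, hkm⟩ : ∃ k ∈ K, ∃ m ∈ M, k * m = b := by
    haveI : (M.subgroupOf (normalizer (M : Set H))).Normal := normal_in_normalizer
    set N := normalizer (M : Set H)
    have hMN : M ≤ N := le_normalizer
    -- conjugate Sylow subgroup
    have hsm : ∀ x, x ∈ M ↔ b * x * b⁻¹ ∈ M := Subgroup.mem_normalizer_iff.1 hbN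
    let c : M ≃* M :=
      { toFun := fun x => ⟨b * x * b⁻¹, (hsm _).1 x.2⟩
        invFun := fun x => ⟨b⁻¹ * x * b, (hsm _).2 (by
          rw [show b * (b⁻¹ * (x : H) * b) * b⁻¹ = x by group]; exact x.2)⟩
        left_inv := fun x => Subtype.ext (by
          show b⁻¹ * (b * (x : H) * b⁻¹) * b = x; group)
        right_inv := fun x => Subtype.ext (by
          show b * (b⁻¹ * (x : H) * b) * b⁻¹ = x; group)
        map_mul' := fun x z => Subtype.ext (by
          show b * ((x : H) * z) * b⁻¹ = b * x * b⁻¹ * (b * z * b⁻¹); group) }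
    obtain ⟨m, hm⟩ := MulAction.exists_smul_eq M (R.mapSurjective (f := c.toMonoidHom) c.surjective) R
    refine ⟨(m : H) * b, ?_, b⁻¹ * (m : H)⁻¹ * b, (hsm _).2 (by
      rw [show b * (b⁻¹ * (m : H)⁻¹ * b) * b⁻¹ = (m : H)⁻¹ by group]
      exact M.inv_mem m.2), by group⟩
    have key : ∀ x ∈ R', (m : H) * b * x * ((m : H) * b)⁻¹ ∈ R' := by
      rintro x ⟨r, hr, rfl⟩
      refine ⟨m * c r * m⁻¹, ?_, ?_⟩
      · rw [← hm, Sylow.coe_subgroup_smul]
        exact ⟨c r, ⟨r, hr, rfl⟩, rfl⟩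
      · show (m : H) * (b * (r : H) * b⁻¹) * (m : H)⁻¹ = _
        group
        rfl
    refine Subgroup.mem_normalizer_iff.2 fun x => ⟨key x, fun hx => ?_⟩
    set f : R' → R' := fun z => ⟨_, key z z.2⟩
    have hf : Function.Injective f := fun z z' h => by
      have := congrArg Subtype.val h
      exact Subtype.ext (mul_left_cancel (mul_right_cancel this))
    obtain ⟨z, hz⟩ := (Finite.injective_iff_surjective.1 hf) ⟨_, hx⟩
    have := congrArg Subtype.val hz
    rw [← mul_left_cancel (mul_right_cancel this)]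
    exact z.2
  refine ⟨⟨k, hk⟩, fun w => Subtype.ext ?_⟩
  show k * D.ι (0, w) * k⁻¹ = D.ι (0, B w)
  have h1 : D.ι (0, B w) = b * D.ι (0, w) * b⁻¹ := by
    rw [hb]
    exact congrArg D.ι (Prod.ext rfl rfl)
  rw [h1, ← hkm]
  conv_lhs => rw [← hfixM m hm w]
  group

end CfsgLib.Pyramidal
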