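import Mathlib.LinearAlgebra.Matrix.SpecialLinearGroup
import Mathlib.GroupTheory.SemidirectProduct
import Mathlib.FieldTheory.Finite.GaloisField

/-!
# Non-solvable pyramidal groups

For an odd prime power `q ≥ 5` the group `𝔽_q² ⋊ SL(2, q)` has exactly `q²` involutions, all
conjugate.
-/

set_option autoImplicit false
set_option linter.unusedSectionVars false
set_option linter.style.haveILetI false

namespace CfsgLib.Pyramidal

open Matrix

variable (K : Type*) [Field K]

/-- The natural action. -/
def planeAction :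
    SpecialLinearGroup (Fin 2) K →* MulAut (Multiplicative (Fin 2 → K)) where
  toFun A :=
    AddEquiv.toMultiplicative
      { toFun := fun v => (A : Matrix (Fin 2) (Fin 2) K) *ᵥ v
        invFun := fun v => ((A⁻¹ : SpecialLinearGroup (Fin 2) K) : Matrix (Fin 2) (Fin 2) K) *ᵥ v
        left_inv := fun v => by
          show _ *ᵥ (_ *ᵥ v) = v
          rw [mulVec_mulVec, ← SpecialLinearGroup.coe_mul, inv_mul_cancel,
            SpecialLinearGroup.coe_one, one_mulVec]
        right_inv := fun v => by
          show _ *ᵥ (_ *ᵥ v) = v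
          rw [mulVec_mulVec, ← SpecialLinearGroup.coe_mul, mul_inv_cancel,
            SpecialLinearGroup.coe_one, one_mulVec]
        map_add' := fun u v => mulVec_add _ u v }
  map_one' := MulEquiv.ext fun v => congrArg Multiplicative.ofAdd (one_mulVec v.toAdd)
  map_mul' A B := MulEquiv.ext fun v => congrArg Multiplicative.ofAdd
    (mulVec_mulVec v.toAdd (A : Matrix (Fin 2) (Fin 2) K) B).symm

/-- The affine special linear group of the plane. -/
abbrev AffinePlane : Type _ :=
  Multiplicative (Fin 2 → K) ⋊[planeAction K] SpecialLinearGroup (Fin 2) K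

instance finite_affinePlane [Finite K] : Finite (AffinePlane K) :=
  Finite.of_equiv _ SemidirectProduct.equivProd.symm

variable {K}

theorem sq_eq_one_sl2 (A : SpecialLinearGroup (Fin 2) K) (h2 : (2 : K) ≠ 0) (hA : A * A = 1) :
    A = 1 ∨ A = -1 := by
  have hd : (A : Matrix (Fin 2) (Fin 2) K).det = 1 := A.2
  rw [det_fin_two] at hd
  have h := congrArg (fun B : SpecialLinearGroup (Fin 2) K => (B : Matrix (Fin 2) (Fin 2) K)) hA
  simp only [SpecialLinearGroup.coe_mul, SpecialLinearGroup.coe_one] at h
  have h00 := congrFun (congrFun h 0) 0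
  have h01 := congrFun (congrFun h 0) 1
  have h10 := congrFun (congrFun h 1) 0
  have h11 := congrFun (congrFun h 1) 1
  simp [Matrix.mul_apply, Fin.sum_univ_two] at h00 h01 h10 h11
  set a := (A : Matrix (Fin 2) (Fin 2) K) 0 0 with ha
  set b := (A : Matrix (Fin 2) (Fin 2) K) 0 1 with hb
  set c := (A : Matrix (Fin 2) (Fin 2) K) 1 0 with hc
  set d := (A : Matrix (Fin 2) (Fin 2) K) 1 1 with hd'
  have hs : a * (a + d) = 2 := by linear_combination h00 + hd
  have hne : a + d ≠ 0 := fun h0 => h2 (by rw [← hs, h0, mul_zero])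
  have hb0 : b = 0 := by
    refine (mul_eq_zero.1 (?_ : b * (a + d) = 0)).resolve_right hne
    linear_combination h01
  have hc0 : c = 0 := by
    refine (mul_eq_zero.1 (?_ : c * (a + d) = 0)).resolve_right hne
    linear_combination h10
  rw [hb0] at h00 h11 hd
  rw [hc0] at hd
  have had : a = d := by
    have h' : a * (a - d) = 0 := by linear_combination h00 - hd
    rcases mul_eq_zero.1 h' with h'' | h''
    · exact absurd (by rw [← hs, h'', zero_mul]) h2
    · exact sub_eq_zero.1 h''
  rcases sq_eq_one_iff.1 (by linear_combination h00 : a ^ 2 = 1) with h1 | h1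
  · left
    ext i j
    fin_cases i <;> fin_cases j <;> simp [← ha, ← hb, ← hc, ← hd', hb0, hc0, ← had, h1]
  · right
    ext i j
    fin_cases i <;> fin_cases j <;> simp [← ha, ← hb, ← hc, ← hd', hb0, hc0, ← had, h1]

/-- The involution over `-1` with translation part `v`. -/
def involutionAt (v : Fin 2 → K) : AffinePlane K := ⟨Multiplicative.ofAdd v, -1⟩

theorem planeAction_neg_one (v : Fin 2 → K) :
    planeAction K (-1) (Multiplicative.ofAdd v) = Multiplicative.ofAdd (-v) := by
  show Multiplicative.ofAdd (((-1 : SpecialLinearGroup (Fin 2) K) :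
      Matrix (Fin 2) (Fin 2) K) *ᵥ v) = _
  rw [SpecialLinearGroup.coe_neg, SpecialLinearGroup.coe_one, neg_mulVec, one_mulVec]

theorem orderOf_eq_two_iff_involutionAt (h2 : (2 : K) ≠ 0) (x : AffinePlane K) :
    orderOf x = 2 ↔ ∃ v, x = involutionAt v := by
  have hne : (-1 : SpecialLinearGroup (Fin 2) K) ≠ 1 := fun h => h2 (by
    have h' := congrArg (fun B : SpecialLinearGroup (Fin 2) K => (B : Matrix (Fin 2) (Fin 2) K) 0 0) h
    simp at h'
    linear_combination -h')
  constructor
  · intro hx
    have hxx : x * x = 1 := by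
      have h := pow_orderOf_eq_one x
      rwa [hx, sq] at h
    have hr : x.right * x.right = 1 := congrArg SemidirectProduct.right hxx
    rcases sq_eq_one_sl2 x.right h2 hr with h | h
    · exfalso
      have hl : x.left * planeAction K x.right x.left = 1 := congrArg SemidirectProduct.left hxx
      rw [h, map_one] at hl
      have h0 : (2 : K) • x.left.toAdd = 0 := by
        rw [two_smul]
        exact congrArg Multiplicative.toAdd hl
      have hl1 : x.left = 1 := (smul_eq_zero.1 h0).resolve_left h2
      have hx1 : x = 1 := SemidirectProduct.ext hl1 h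
      rw [hx1, orderOf_one] at hx
      exact absurd hx (by norm_num)
    · exact ⟨x.left.toAdd, SemidirectProduct.ext rfl h⟩
  · rintro ⟨v, rfl⟩
    refine orderOf_eq_prime ?_ fun h => hne (congrArg SemidirectProduct.right h)
    rw [sq]
    refine SemidirectProduct.ext ?_ ?_
    · show Multiplicative.ofAdd v * planeAction K (-1) (Multiplicative.ofAdd v) = 1
      rw [planeAction_neg_one, ← ofAdd_add, add_neg_cancel]
      rfl
    · show (-1 : SpecialLinearGroup (Fin 2) K) * (-1) = 1
      rw [neg_mul_neg, one_mul]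

theorem card_involutions_affinePlane (h2 : (2 : K) ≠ 0) :
    Nat.card {x : AffinePlane K // orderOf x = 2} = Nat.card K ^ 2 := by
  rw [show Nat.card K ^ 2 = Nat.card (Fin 2 → K) by rw [Nat.card_fun, Nat.card_fin]]
  refine (Nat.card_congr (Equiv.ofBijective
    (fun v => ⟨involutionAt v, (orderOf_eq_two_iff_involutionAt h2 _).2 ⟨v, rfl⟩⟩) ⟨?_, ?_⟩)).symm
  · intro u v h
    exact congrArg (fun x : {x : AffinePlane K // orderOf x = 2} => x.1.left.toAdd) h
  · rintro ⟨x, hx⟩
    obtain ⟨v, rfl⟩ := (orderOf_eq_two_iff_involutionAt h2 x).1 hx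
    exact ⟨v, rfl⟩

theorem conj_involutions_affinePlane (h2 : (2 : K) ≠ 0) (x y : AffinePlane K) (hx : orderOf x = 2)
    (hy : orderOf y = 2) : ∃ g : AffinePlane K, g * x * g⁻¹ = y := by
  obtain ⟨u, rfl⟩ := (orderOf_eq_two_iff_involutionAt h2 x).1 hx
  obtain ⟨v, rfl⟩ := (orderOf_eq_two_iff_involutionAt h2 y).1 hy
  refine ⟨⟨Multiplicative.ofAdd ((2 : K)⁻¹ • (v - u)), 1⟩, ?_⟩
  rw [mul_inv_eq_iff_eq_mul]
  refine SemidirectProduct.ext ?_ ?_
  · show Multiplicative.ofAdd ((2 : K)⁻¹ • (v - u)) * planeAction K 1 (Multiplicative.ofAdd u) =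
      Multiplicative.ofAdd v * planeAction K (-1) (Multiplicative.ofAdd ((2 : K)⁻¹ • (v - u)))
    rw [map_one, planeAction_neg_one]
    show Multiplicative.ofAdd ((2 : K)⁻¹ • (v - u) + u) =
      Multiplicative.ofAdd (v + -((2 : K)⁻¹ • (v - u)))
    refine congrArg Multiplicative.ofAdd (funext fun i => ?_)
    simp only [Pi.add_apply, Pi.neg_apply, Pi.smul_apply, Pi.sub_apply, smul_eq_mul]
    field_simp
    ring
  · show (1 : SpecialLinearGroup (Fin 2) K) * (-1) = -1 * 1
    rw [one_mul, mul_one]

theorem not_isSolvable_affinePlane [Finite K] (h5 : 4 ≤ Nat.card K) :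
    ¬ Group.IsSolvable (AffinePlane K) := by
  classical
  haveI : Fintype K := Fintype.ofFinite K
  intro h
  haveI : Group.IsSolvable (SpecialLinearGroup (Fin 2) K) :=
    Group.isSolvable_of_surjective (f := (SemidirectProduct.rightHom : AffinePlane K →* _))
      SemidirectProduct.rightHom_surjective
  obtain ⟨a, ha, ha2⟩ : ∃ a : K, a ≠ 0 ∧ a ^ 2 ≠ 1 := by
    by_contra! hc
    have hle : Fintype.card K ≤ ({0, 1, -1} : Finset K).card :=
      Finset.card_le_card (s := Finset.univ) fun a _ => by
        rcases eq_or_ne a 0 with h | h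
        · simp [h]
        · rcases sq_eq_one_iff.mp (hc a h) with h' | h' <;> simp [h']
    rw [Nat.card_eq_fintype_card] at h5
    exact absurd (h5.trans (hle.trans Finset.card_le_three)) (by norm_num)
  obtain ⟨n, hn⟩ := (Group.isSolvable_def (G := SpecialLinearGroup (Fin 2) K)).1 inferInstance
  have hconst : ∀ m, derivedSeries (SpecialLinearGroup (Fin 2) K) m = ⊤ := by
    intro m
    induction m with
    | zero => rfl
    | succ m ih => rw [derivedSeries_succ, ih, ← commutator_def, Matrix.SL2.commutator_eq_top ha ha2]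
  rw [hconst] at hn
  have hone : (-1 : SpecialLinearGroup (Fin 2) K) = 1 := by
    rw [← Subgroup.mem_bot, ← hn]; exact Subgroup.mem_top _
  have h' := congrArg (fun B : SpecialLinearGroup (Fin 2) K => (B : Matrix (Fin 2) (Fin 2) K) 0 0) hone
  simp at h'
  obtain ⟨b, hb⟩ : ∃ b : SpecialLinearGroup (Fin 2) K, b ≠ 1 :=
    ⟨SpecialLinearGroup.transvection zero_ne_one 1, fun hb => by
      have h'' := congrArg (fun B : SpecialLinearGroup (Fin 2) K => (B : Matrix (Fin 2) (Fin 2) K) 0 1) hb
      simp [Matrix.SpecialLinearGroup.transvection, Matrix.transvection] at h''⟩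
  exact hb (by rw [← Subgroup.mem_bot, ← hn]; exact Subgroup.mem_top _)

/-- **The examples.** -/
theorem exists_not_solvable_pyramidal (p d : ℕ) (hp : p.Prime) (hp2 : p ≠ 2) (hd : d ≠ 0)
    (h9 : p ^ d ≠ 3) : ∃ (G : Type) (_ : Group G) (_ : Finite G),
      Nat.card {x : G // orderOf x = 2} = p ^ (2 * d) ∧
      (∀ x y : G, orderOf x = 2 → orderOf y = 2 → ∃ g : G, g * x * g⁻¹ = y) ∧
      ¬ Group.IsSolvable G := by
  haveI : Fact p.Prime := ⟨hp⟩
  have hcard : Nat.card (GaloisField p d) = p ^ d := GaloisField.card p d hd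
  haveI : Finite (GaloisField p d) :=
    Nat.finite_of_card_ne_zero (by rw [hcard]; exact (pow_pos hp.pos d).ne')
  have h2 : (2 : GaloisField p d) ≠ 0 := by
    intro h
    have h' : ((2 : ℕ) : GaloisField p d) = 0 := by exact_mod_cast h
    rw [CharP.cast_eq_zero_iff (GaloisField p d) p] at h'
    exact hp2 ((Nat.prime_dvd_prime_iff_eq hp Nat.prime_two).1 h')
  refine ⟨AffinePlane (GaloisField p d), inferInstance, inferInstance, ?_,
    conj_involutions_affinePlane h2, not_isSolvable_affinePlane ?_⟩
  · rw [card_involutions_affinePlane h2, hcard, ← pow_mul, mul_comm]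
  · rw [hcard]
    have h3 : 3 ≤ p := lt_of_le_of_ne hp.two_le (Ne.symm hp2)
    have : 3 ≤ p ^ d := h3.trans (Nat.le_self_pow hd p)
    omega

end CfsgLib.Pyramidal
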