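import Cfsg.Agent.Pyramidal.Quad

/-!
# No equivariant anisotropic quadratic map onto the natural module of `GL₃(2)`

An anisotropic quadratic map `q : W → 𝔽₂³` commuting with actions of `GL₃(2)` has vanishing
polar form.
-/

set_option autoImplicit false
set_option linter.unusedSectionVars false
set_option linter.style.haveILetI false

namespace CfsgLib.Pyramidal

open Matrix

/-- The natural module. -/
abbrev V3 : Type := Fin 3 → ZMod 2

/-- Matrices of degree three over the field with two elements. -/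
abbrev M3 : Type := Matrix (Fin 3) (Fin 3) (ZMod 2)

/-- The transvection `1 + E₀₁`. -/
def tA : M3ˣ := ⟨!![1, 1, 0; 0, 1, 0; 0, 0, 1], !![1, 1, 0; 0, 1, 0; 0, 0, 1], by decide, by decide⟩

/-- The transvection `1 + E₁₂`. -/
def tB : M3ˣ := ⟨!![1, 0, 0; 0, 1, 1; 0, 0, 1], !![1, 0, 0; 0, 1, 1; 0, 0, 1], by decide, by decide⟩

/-- The transvection `1 + E₀₂`. -/
def tZ : M3ˣ := ⟨!![1, 0, 1; 0, 1, 0; 0, 0, 1], !![1, 0, 1; 0, 1, 0; 0, 0, 1], by decide, by decide⟩

/-- Cycles the points of the standard plane. -/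
def rL : M3ˣ := ⟨!![0, 1, 0; 1, 1, 0; 0, 0, 1], !![1, 1, 0; 1, 0, 0; 0, 0, 1], by decide, by decide⟩

/-- Cycles the lines through the standard point. -/
def rP : M3ˣ := ⟨!![1, 0, 0; 0, 0, 1; 0, 1, 1], !![1, 0, 0; 0, 1, 1; 0, 1, 0], by decide, by decide⟩

/-- The standard point. -/
def e0 : V3 := ![1, 0, 0]

/-- The words in the flag stabiliser. -/
def sWord (a b c : Bool) : M3ˣ :=
  (if a then tA else 1) * (if b then tB else 1) * (if c then tZ else 1)

variable {W : Type*} [AddCommGroup W]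

section

variable (ρ : M3ˣ →* AddMonoid.End W)

/-- The three-term sum of a cycle. -/
def cyc (r : M3ˣ) (w : W) : W := w + ρ r w + ρ (r * r) w

theorem ρ_mul (A B : M3ˣ) (w : W) : ρ (A * B) w = ρ A (ρ B w) := by rw [map_mul]; rfl

theorem ρ_one (w : W) : ρ 1 w = w := by rw [map_one]; rfl

theorem cyc_fixed (r : M3ˣ) (hr : r * r * r = 1) (w : W) : ρ r (cyc ρ r w) = cyc ρ r w := by
  rw [cyc, map_add, map_add, ← ρ_mul, ← ρ_mul, ← mul_assoc, hr, ρ_one]
  abel

end

theorem exists_stab_word : ∀ v w : V3, Matrix.det !![1, v 0, w 0; 0, v 1, w 1; 0, v 2, w 2] ≠ 0 →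
    ∃ (i : Fin 3) (a b c : Bool),
      ((rP ^ i.val * sWord a b c : M3ˣ) : M3) = !![1, v 0, w 0; 0, v 1, w 1; 0, v 2, w 2] := by
  decide +kernel

theorem exists_pair : ∀ a b : V3, a ≠ 0 → b ≠ 0 → a ≠ b →
    ∃ w : V3, Matrix.det !![a 0, b 0, w 0; a 1, b 1, w 1; a 2, b 2, w 2] ≠ 0 := by
  decide +kernel

theorem det_ne_zero_of_unit (A : M3ˣ) : Matrix.det (A : M3) ≠ 0 :=
  ((Matrix.isUnit_iff_isUnit_det _).1 A.isUnit).ne_zero

theorem exists_unit_pair {a b : V3} (ha : a ≠ 0) (hb : b ≠ 0) (hab : a ≠ b) :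
    ∃ A : M3ˣ, (A : M3) *ᵥ e0 = a ∧ (A : M3) *ᵥ ![0, 1, 0] = b := by
  obtain ⟨w, hw⟩ := exists_pair a b ha hb hab
  obtain ⟨A, hA⟩ := (Matrix.isUnit_iff_isUnit_det _).2 (isUnit_iff_ne_zero.2 hw)
  refine ⟨A, ?_, ?_⟩ <;>
  · rw [hA]
    funext i
    fin_cases i <;> simp [e0, Matrix.mulVec, dotProduct, Fin.sum_univ_three]

/-- **The theorem.** -/
theorem pol_eq_zero [Finite W] {q : W → V3} (hq : IsAniso q) (ρ : M3ˣ →* AddMonoid.End W)
    (hequiv : ∀ (A : M3ˣ) (w : W), q (ρ A w) = (A : M3) *ᵥ q w) (u v : W) : pol q u v = 0 := by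
  classical
  rcases subsingleton_or_nontrivial W with hs | hnt
  · rw [Subsingleton.elim u 0, Subsingleton.elim v 0, hq.pol_self]
  have hpe : ∀ (A : M3ˣ) (a b : W), pol q (ρ A a) (ρ A b) = (A : M3) *ᵥ pol q a b := by
    intro A a b
    simp only [pol, ← map_add, hequiv, Matrix.mulVec_add]
  have hrr : ∀ w : W, ∀ s : M3ˣ, s * s = 1 → ρ s (ρ s w) = w := by
    intro w s hs
    rw [← ρ_mul, hs, ρ_one]
  -- a vector fixed by the flag stabiliser
  obtain ⟨w₀, hw₀, hA₀, hB₀, hZ₀⟩ :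
      ∃ w : W, w ≠ 0 ∧ ρ tA w = w ∧ ρ tB w = w ∧ ρ tZ w = w := by
    have step : ∀ (P : W → Prop), (∀ a b, P a → P b → P (a + b)) → ∀ s : M3ˣ, s * s = 1 →
        (∀ w, P w → P (ρ s w)) → (∃ w, w ≠ 0 ∧ P w) → ∃ w, w ≠ 0 ∧ P w ∧ ρ s w = w := by
      intro P hadd s hs hP ⟨w, hw, hPw⟩
      by_cases h : ρ s w = w
      · exact ⟨w, hw, hPw, h⟩
      · refine ⟨ρ s w + w, fun h0 => h ?_, hadd _ _ (hP w hPw) hPw, ?_⟩
        · calc ρ s w = ρ s w + (w + w) := by rw [hq.two_left, add_zero]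
            _ = w := by rw [← add_assoc, h0, zero_add]
        · rw [map_add, hrr w s hs, add_comm]
    obtain ⟨w₁, h1⟩ := exists_ne (0 : W)
    obtain ⟨w₂, h2, -, hZ⟩ := step (fun _ => True) (fun _ _ _ _ => trivial) tZ (by decide +kernel)
      (fun _ _ => trivial) ⟨w₁, h1, trivial⟩
    obtain ⟨w₃, h3, hZ', hA⟩ := step (fun w => ρ tZ w = w)
      (fun a b ha hb => by rw [map_add, ha, hb]) tA (by decide +kernel)
      (fun w hw => by
        rw [← ρ_mul, show tZ * tA = tA * tZ by decide +kernel, ρ_mul, hw]) ⟨w₂, h2, hZ⟩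
    obtain ⟨w₄, h4, ⟨hA', hZ''⟩, hB⟩ := step (fun w => ρ tA w = w ∧ ρ tZ w = w)
      (fun a b ha hb => ⟨by rw [map_add, ha.1, hb.1], by rw [map_add, ha.2, hb.2]⟩) tB
      (by decide +kernel)
      (fun w hw => ⟨by
        rw [← ρ_mul, show tA * tB = tB * (tA * tZ) by decide +kernel, ρ_mul, ρ_mul, hw.2, hw.1],
        by rw [← ρ_mul, show tZ * tB = tB * tZ by decide +kernel, ρ_mul, hw.2]⟩)
      ⟨w₃, h3, hA, hZ'⟩
    exact ⟨w₄, h4, hA', hB, hZ''⟩
  have hword : ∀ a b c, ρ (sWord a b c) w₀ = w₀ := by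
    intro a b c
    rw [sWord, ρ_mul, ρ_mul]
    cases a <;> cases b <;> cases c <;> simp [hA₀, hB₀, hZ₀]
  have hq0 : q w₀ = e0 := by
    have key : ∀ x : V3, (tA : M3) *ᵥ x = x → (tB : M3) *ᵥ x = x → x = 0 ∨ x = e0 := by
      decide +kernel
    refine (key _ (by rw [← hequiv, hA₀]) (by rw [← hequiv, hB₀])).resolve_left
      fun h => hw₀ (hq.aniso _ h)
  -- the sum over a line vanishes
  have line : cyc ρ rL w₀ = 0 := by
    have h1 : ρ rL (cyc ρ rL w₀) = cyc ρ rL w₀ := cyc_fixed ρ rL (by decide +kernel) w₀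
    have h2 : ρ tZ (cyc ρ rL w₀) = cyc ρ rL w₀ := by
      rw [cyc, map_add, map_add, hZ₀, ← ρ_mul, ← ρ_mul,
        show tZ * rL = rL * sWord false true true by decide +kernel,
        show tZ * (rL * rL) = rL * rL * sWord false true false by decide +kernel, ρ_mul, ρ_mul,
        hword, hword]
    have key : ∀ x : V3, (rL : M3) *ᵥ x = x → (tZ : M3) *ᵥ x = x → x = 0 := by decide +kernel
    exact hq.aniso _ (key _ (by rw [← hequiv, h1]) (by rw [← hequiv, h2]))
  by_cases hc : cyc ρ rP w₀ = 0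
  · -- no vector is fixed by the point stabiliser
    exfalso
    have hpolA : pol q w₀ (ρ rP w₀) = e0 := by
      have h3 : w₀ + ρ rP w₀ = ρ (rP * rP) w₀ := by
        calc w₀ + ρ rP w₀ = cyc ρ rP w₀ + ρ (rP * rP) w₀ := by
              rw [cyc, add_assoc (w₀ + ρ rP w₀), hq.two_left, add_zero]
          _ = _ := by rw [hc, zero_add]
      rw [pol, h3, hequiv, hequiv, hq0]
      decide +kernel
    have line' : ρ rP w₀ + ρ (rP * rL) w₀ + ρ (rP * (rL * rL)) w₀ = 0 := by
      rw [ρ_mul ρ rP rL, ρ_mul ρ rP (rL * rL), ← map_add, ← map_add]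
      show ρ rP (cyc ρ rL w₀) = 0
      rw [line, map_zero]
    set z := ρ (rP * rL) w₀ with hz
    have hz' : ρ (rP * (rL * rL)) w₀ = ρ tZ z := by
      rw [hz, ← ρ_mul,
        show tZ * (rP * rL) = rP * (rL * rL) * sWord true true true by decide +kernel,
        ρ_mul ρ (rP * (rL * rL)), hword]
    have h1 : hq.polHom w₀ (ρ rP w₀) + hq.polHom w₀ z + hq.polHom w₀ (ρ tZ z) = 0 := by
      rw [← map_add, ← map_add, ← hz', line', map_zero]
    simp only [IsAniso.polHom_apply] at h1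
    have h2 : pol q w₀ (ρ tZ z) = (tZ : M3) *ᵥ pol q w₀ z := by
      rw [← hpe, hZ₀]
    rw [hpolA, h2] at h1
    have hAz : ρ tA z = z := by
      rw [hz, ← ρ_mul,
        show tA * (rP * rL) = rP * rL * sWord false true true by decide +kernel,
        ρ_mul ρ (rP * rL), hword]
    have h3 : hq.polHom z w₀ + hq.polHom z (ρ rL w₀) + hq.polHom z (ρ (rL * rL) w₀) = 0 := by
      rw [← map_add, ← map_add]
      show hq.polHom z (cyc ρ rL w₀) = 0
      rw [line, map_zero]
    simp only [IsAniso.polHom_apply] at h3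
    have h4 : pol q z (ρ (rL * rL) w₀) = (tA : M3) *ᵥ pol q z (ρ rL w₀) := by
      rw [← hpe, hAz, ← ρ_mul, show tA * rL = rL * rL * sWord true false false by decide +kernel,
        ρ_mul ρ (rL * rL), hword]
    rw [h4, pol_comm q z w₀] at h3
    have key : ∀ β o : V3, β + o + (tA : M3) *ᵥ o = 0 → e0 + β + (tZ : M3) *ᵥ β = 0 → False := by
      decide +kernel
    exact key _ _ h3 h1
  -- a vector fixed by the point stabiliser
  set wc := cyc ρ rP w₀ with hwc
  have hrP : ρ rP wc = wc := cyc_fixed ρ rP (by decide +kernel) w₀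
  have hcA : ρ tA wc = wc := by
    rw [hwc, cyc, map_add, map_add, hA₀, ← ρ_mul, ← ρ_mul,
      show tA * rP = rP * sWord false false true by decide +kernel,
      show tA * (rP * rP) = rP * rP * sWord true false true by decide +kernel, ρ_mul, ρ_mul,
      hword, hword]
  have hcZ : ρ tZ wc = wc := by
    rw [hwc, cyc, map_add, map_add, hZ₀, ← ρ_mul, ← ρ_mul,
      show tZ * rP = rP * sWord true false true by decide +kernel,
      show tZ * (rP * rP) = rP * rP * sWord true false false by decide +kernel, ρ_mul, ρ_mul,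
      hword, hword]
  have hcB : ρ tB wc = wc := by
    have e1 : ρ (tB * rP) w₀ = ρ (rP * rP) w₀ := by
      rw [show tB * rP = rP * rP * sWord false true false by decide +kernel, ρ_mul, hword]
    have e2 : ρ (tB * (rP * rP)) w₀ = ρ rP w₀ := by
      rw [show tB * (rP * rP) = rP * sWord false true false by decide +kernel, ρ_mul, hword]
    rw [hwc, cyc, map_add, map_add, hB₀, ← ρ_mul, ← ρ_mul, e1, e2]
    abel
  have hstab : ∀ A : M3ˣ, (A : M3) *ᵥ e0 = e0 → ρ A wc = wc := by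
    intro A hA
    have hM : (A : M3) = !![1, (A : M3) 0 1, (A : M3) 0 2; 0, (A : M3) 1 1, (A : M3) 1 2;
        0, (A : M3) 2 1, (A : M3) 2 2] := by
      have h0 := congrFun hA 0
      have h1 := congrFun hA 1
      have h2 := congrFun hA 2
      simp [e0, Matrix.mulVec, dotProduct, Fin.sum_univ_three] at h0 h1 h2
      ext i j
      fin_cases i <;> fin_cases j <;> simp [h0, h1, h2]
    have hdet := det_ne_zero_of_unit A
    rw [hM] at hdet
    obtain ⟨i, a, b, c, hw⟩ :=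
      exists_stab_word (fun i => (A : M3) i 1) (fun i => (A : M3) i 2) hdet
    rw [show A = rP ^ i.val * sWord a b c from Units.ext (hM.trans hw.symm), ρ_mul]
    have hs : ρ (sWord a b c) wc = wc := by
      rw [sWord, ρ_mul, ρ_mul]
      cases a <;> cases b <;> cases c <;> simp [hcA, hcB, hcZ]
    rw [hs]
    generalize i.val = k
    induction k with
    | zero => rw [pow_zero, ρ_one]
    | succ k ih => rw [pow_succ, ρ_mul, hrP, ih]
  have hqc : q wc = e0 := by
    have key : ∀ x : V3, (rP : M3) *ᵥ x = x → x = 0 ∨ x = e0 := by decide +kernel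
    exact (key _ (by rw [← hequiv, hrP])).resolve_left fun h => hc (hq.aniso _ h)
  have hcong : ∀ A B : M3ˣ, (A : M3) *ᵥ e0 = (B : M3) *ᵥ e0 → ρ A wc = ρ B wc := by
    intro A B h
    have h1 := hstab (B⁻¹ * A) (by
      rw [Units.val_mul, ← Matrix.mulVec_mulVec, h, Matrix.mulVec_mulVec, ← Units.val_mul,
        inv_mul_cancel, Units.val_one, Matrix.one_mulVec])
    calc ρ A wc = ρ (B * (B⁻¹ * A)) wc := by rw [mul_inv_cancel_left]
      _ = ρ B wc := by rw [ρ_mul, h1]
  -- the equivariant section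
  have hexA : ∀ a : V3, ∃ A : M3ˣ, a ≠ 0 → (A : M3) *ᵥ e0 = a := by
    intro a
    by_cases ha : a = 0
    · exact ⟨1, fun h => absurd ha h⟩
    by_cases he : a = e0
    · exact ⟨1, fun _ => by rw [he, Units.val_one, Matrix.one_mulVec]⟩
    obtain ⟨A, hA, -⟩ := exists_unit_pair ha (b := e0) (by decide) he
    exact ⟨A, fun _ => hA⟩
  choose K hK using hexA
  let f : V3 → W := fun a => if a = 0 then 0 else ρ (K a) wc
  have hf : ∀ (A : M3ˣ), f ((A : M3) *ᵥ e0) = ρ A wc := by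
    intro A
    have hne : (A : M3) *ᵥ e0 ≠ 0 := by
      intro h
      have := congrArg (((A⁻¹ : M3ˣ) : M3) *ᵥ ·) h
      rw [Matrix.mulVec_mulVec, ← Units.val_mul, inv_mul_cancel, Units.val_one, Matrix.one_mulVec,
        Matrix.mulVec_zero] at this
      exact absurd this (by decide)
    simp only [f, if_neg hne]
    exact hcong _ _ (hK _ hne)
  have hqf : ∀ a, q (f a) = a := by
    intro a
    by_cases ha : a = 0
    · subst ha
      simp [f, hq.zero]
    · simp only [f, if_neg ha]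
      rw [hequiv, hqc, hK a ha]
  have line2 : f ![1, 1, 0] = f e0 + f ![0, 1, 0] := by
    have h1 : ρ rL (cyc ρ rL wc) = cyc ρ rL wc := cyc_fixed ρ rL (by decide +kernel) wc
    have h2 : ρ tZ (cyc ρ rL wc) = cyc ρ rL wc := by
      rw [cyc, map_add, map_add, hcZ, ← ρ_mul, ← ρ_mul,
        hcong (tZ * rL) rL (by decide +kernel), hcong (tZ * (rL * rL)) (rL * rL) (by decide +kernel)]
    have key : ∀ x : V3, (rL : M3) *ᵥ x = x → (tZ : M3) *ᵥ x = x → x = 0 := by decide +kernel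
    have h0 := hq.aniso _ (key _ (by rw [← hequiv, h1]) (by rw [← hequiv, h2]))
    have e1 : f e0 = wc := by
      conv_lhs => rw [show e0 = ((1 : M3ˣ) : M3) *ᵥ e0 by rw [Units.val_one, Matrix.one_mulVec]]
      rw [hf, ρ_one]
    rw [show (![1, 1, 0] : V3) = ((rL * rL : M3ˣ) : M3) *ᵥ e0 by decide +kernel, hf, e1,
      show (![0, 1, 0] : V3) = (rL : M3) *ᵥ e0 by decide +kernel, hf]
    calc ρ (rL * rL) wc = cyc ρ rL wc + ρ (rL * rL) wc := by rw [h0, zero_add]
      _ = wc + ρ rL wc := by rw [cyc, add_assoc (wc + ρ rL wc), hq.two_left, add_zero]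
  have hfadd : ∀ a b, a ≠ 0 → b ≠ 0 → a ≠ b → f (a + b) = f a + f b := by
    intro a b ha hb hab
    obtain ⟨A, hA0, hA1⟩ := exists_unit_pair ha hb hab
    obtain ⟨B, hB⟩ : ∃ B : M3ˣ, (B : M3) *ᵥ e0 = ![0, 1, 0] := ⟨rL, by decide +kernel⟩
    obtain ⟨B', hB'⟩ : ∃ B' : M3ˣ, (B' : M3) *ᵥ e0 = ![1, 1, 0] := ⟨rL * rL, by decide +kernel⟩
    have hab' : a + b = ((A * B' : M3ˣ) : M3) *ᵥ e0 := by
      rw [Units.val_mul, ← Matrix.mulVec_mulVec, hB', ← hA0, ← hA1, ← Matrix.mulVec_add]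
      congr 1
      decide
    have hb' : b = ((A * B : M3ˣ) : M3) *ᵥ e0 := by
      rw [Units.val_mul, ← Matrix.mulVec_mulVec, hB, hA1]
    rw [hab', hf, hb', hf, ← hA0, hf, ρ_mul, ρ_mul, ← hf B', ← hf B, hB, hB', line2, map_add]
    congr 1
    rw [show e0 = ((1 : M3ˣ) : M3) *ᵥ e0 by rw [Units.val_one, Matrix.one_mulVec], hf, ρ_one]
  have hiso : ∀ a b, pol q (f a) (f b) = 0 := by
    intro a b
    by_cases ha : a = 0
    · have : f a = 0 := by simp only [f, if_pos ha]
      rw [this, pol_comm]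
      exact map_zero (hq.polHom (f b))
    by_cases hb : b = 0
    · have : f b = 0 := by simp only [f, if_pos hb]
      rw [this]
      exact map_zero (hq.polHom (f a))
    by_cases hab : a = b
    · rw [hab, hq.pol_self]
    rw [pol, ← hfadd a b ha hb hab, hqf, hqf, hqf, add_assoc]
    exact (by decide +kernel : ∀ c : V3, c + c = 0) _
  have hfib : ∀ e e' : V3, e ≠ 0 → e' ≠ 0 →
      Nat.card {w // q w = e} = Nat.card {w // q w = e'} := by
    have hle : ∀ e e' : V3, e ≠ 0 → e' ≠ 0 →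
        Nat.card {w // q w = e} ≤ Nat.card {w // q w = e'} := by
      intro e e' he he'
      have h2 : (((K e' * (K e)⁻¹ : M3ˣ)) : M3) *ᵥ e = e' := by
        conv_lhs => arg 2; rw [← hK e he]
        rw [Matrix.mulVec_mulVec, ← Units.val_mul, inv_mul_cancel_right, hK e' he']
      refine Nat.card_le_card_of_injective
        (fun w => ⟨ρ (K e' * (K e)⁻¹) w.1, by rw [hequiv, w.2, h2]⟩) fun w w' h => ?_
      have h' := congrArg (fun x => ρ (K e * (K e')⁻¹) x.1) h
      simp only [← ρ_mul] at h'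
      rw [show K e * (K e')⁻¹ * (K e' * (K e)⁻¹) = 1 by group, ρ_one, ρ_one] at h'
      exact Subtype.ext h'
    exact fun e e' he he' => le_antisymm (hle e e' he he') (hle e' e he' he)
  rcases hq.dichotomy (n := 3) (by norm_num) (by simp [Nat.card_eq_fintype_card]) hnt hfib with
    hbij | ⟨hcard, hsur⟩
  · obtain ⟨a, rfl⟩ : ∃ a, f a = u := ⟨q u, hbij.1 (hqf (q u))⟩
    obtain ⟨b, rfl⟩ : ∃ b, f b = v := ⟨q v, hbij.1 (hqf (q v))⟩
    exact hiso a b
  exfalso
  have hfinj : Function.Injective f := fun a b h => by rw [← hqf a, h, hqf]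
  have hker : ∀ a, a ≠ 0 → ∀ x, pol q (f a) x = 0 → ∃ b, f b = x := by
    intro a ha x hx
    have hne : f a ≠ 0 := fun h0 => ha (by rw [← hqf a, h0, hq.zero])
    set φ := hq.polHom (f a)
    let g : V3 → φ.ker := fun b => ⟨f b, hiso a b⟩
    have hginj : Function.Injective g := fun b c h => hfinj (congrArg Subtype.val h)
    have hk : Nat.card φ.ker = Nat.card V3 := by
      have h := φ.ker.card_mul_index
      rw [AddSubgroup.index_ker, AddMonoidHom.range_eq_top.2 (hsur (f a) hne),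
        AddSubgroup.card_top, hcard] at h
      exact Nat.eq_of_mul_eq_mul_right Nat.card_pos (h.trans (sq _))
    obtain ⟨b, hb⟩ := ((Nat.bijective_iff_injective_and_card g).2 ⟨hginj, hk.symm⟩).2 ⟨x, hx⟩
    exact ⟨b, congrArg Subtype.val hb⟩
  have hf0 : f e0 ≠ 0 := fun h0 => (by decide : e0 ≠ 0) (by rw [← hqf e0, h0, hq.zero])
  obtain ⟨x, hx⟩ := hsur (f e0) hf0 ![0, 0, 1]
  set δ := ρ tZ x + x
  have hδ : ∀ a, (tZ : M3) *ᵥ a = a → a ≠ 0 →
      pol q (f a) δ = (tZ : M3) *ᵥ pol q (f a) x + pol q (f a) x := by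
    intro a ha hne
    have hfix : ρ tZ (f a) = f a := by
      rw [← hK a hne, hf, ← ρ_mul]
      exact hcong _ _ (by rw [Units.val_mul, ← Matrix.mulVec_mulVec, hK a hne, ha])
    show hq.polHom (f a) (ρ tZ x + x) = _
    rw [map_add, IsAniso.polHom_apply, IsAniso.polHom_apply]
    congr 1
    rw [← hpe, hfix]
  have hδ0 : pol q (f e0) δ = e0 := by
    rw [hδ e0 (by decide +kernel) (by decide), hx]
    decide +kernel
  have hall : ∀ a, (tZ : M3) *ᵥ a = a → a ≠ 0 → pol q (f a) δ = e0 := by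
    intro a ha hne
    have key : ∀ y : V3, (tZ : M3) *ᵥ y + y = 0 ∨ (tZ : M3) *ᵥ y + y = e0 := by decide +kernel
    rw [hδ a ha hne]
    refine (key _).resolve_left fun h0 => ?_
    rw [← hδ a ha hne] at h0
    obtain ⟨b, hb⟩ := hker a hne δ h0
    rw [← hb, hiso] at hδ0
    exact absurd hδ0 (by decide)
  have h3 : pol q (f ![1, 1, 0]) δ = pol q (f e0) δ + pol q (f ![0, 1, 0]) δ := by
    rw [line2, hq.add]
  rw [hall _ (by decide +kernel) (by decide), hδ0, hall _ (by decide +kernel) (by decide)] at h3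
  exact absurd h3 (by decide)

end CfsgLib.Pyramidal
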