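import Cfsg.Agent.Pyramidal.QuotAction
import Cfsg.Agent.Pyramidal.AbelianThree
import Cfsg.Agent.Pyramidal.TwoGroup

/-!
# The automizer of the involutions is not the whole linear group

No finite group has all its involutions in an elementary abelian subgroup of odd rank at least
three all whose automorphisms are induced by conjugation.
-/

set_option autoImplicit false
set_option linter.unusedSectionVars false
set_option linter.style.haveILetI false

namespace CfsgLib.Pyramidal

open Subgroup Matrix

universe u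

/-- An element of order seven. -/
def seven : M3ˣ := ⟨!![0, 0, 1; 1, 0, 1; 0, 1, 0], !![1, 1, 0; 0, 0, 1; 1, 0, 0], by decide, by decide⟩

theorem seven_trans : ∀ v w : V3, v ≠ 0 → w ≠ 0 →
    ∃ i : Fin 7, ((seven : M3) ^ (i : ℕ)) *ᵥ v = w := by decide +kernel

theorem pX_moves : (pX : M3) *ᵥ ![0, 1, 0] ≠ ![0, 1, 0] := by decide

theorem e0_ne : e0 ≠ 0 := by decide

theorem e1_ne : (![0, 1, 0] : V3) ≠ 0 := by decide

theorem e0_ne_e1 : e0 ≠ ![0, 1, 0] := by decide

theorem V3_add_self : ∀ v : V3, v + v = 0 := by decide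

/-- With an abelian centraliser. -/
theorem false_of_comm {H : Type*} [Group H] [Finite H] (D : Cfg H V3) (hlift : D.AllLift)
    (hP : IsPGroup 2 D.cent) (hab : ∀ a b : D.cent, a * b = b * a) : False := by
  classical
  haveI : Fact (Nat.Prime 2) := ⟨Nat.prime_two⟩
  set N : Subgroup D.cent := ⊥
  obtain ⟨ρ, hρ⟩ := D.exists_action hlift N fun c d => by
    rw [hab c d, inv_mul_cancel]; exact N.one_mem
  letI : CommGroup (D.cent ⧸ N) :=
    { (inferInstance : Group (D.cent ⧸ N)) with
      mul_comm := by
        rintro ⟨a⟩ ⟨b⟩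
        exact congrArg QuotientGroup.mk (hab a b) }
  have hmkinj : ∀ a b : D.cent, (QuotientGroup.mk a : D.cent ⧸ N) = QuotientGroup.mk b → a = b :=
    fun a b h => inv_mul_eq_one.1 (Subgroup.mem_bot.1 (QuotientGroup.eq.1 h))
  let mk : D.cent → Additive (D.cent ⧸ N) := fun c => Additive.ofMul (QuotientGroup.mk c)
  let ι' : V3 →+ Additive (D.cent ⧸ N) :=
    AddMonoidHom.mk' (fun v => mk ⟨D.ι v, D.ι_mem_cent v⟩) fun u v =>
      congrArg (fun c : D.cent => mk c) (Subtype.ext (D.map_add u v))
  obtain ⟨x, hx⟩ := D.exists_induces hlift pX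
  obtain ⟨w, hw⟩ := D.exists_induces hlift pU
  have hxx : x * x ∈ D.cent := by
    refine D.mem_cent_of_conj fun v => ?_
    rw [(D.induces_mul hx hx) v, show pX * pX = 1 by decide +kernel, Units.val_one,
      Matrix.one_mulVec]
  set s : D.cent := ⟨x * x, hxx⟩ with hsdef
  obtain ⟨k, hk⟩ := IsPGroup.iff_card.1 hP
  have hcomm : ∀ a b : H, a ∈ D.cent → b ∈ D.cent → a * b = b * a := fun a b ha hb =>
    congrArg Subtype.val (hab ⟨a, ha⟩ ⟨b, hb⟩)
  have hsq : ∀ c : D.cent, (x * c) * (x * c) = ((s * MulAut.conjNormal x c * c : D.cent) : H) := by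
    intro c
    show _ = x * x * (MulAut.conjNormal x c : D.cent) * c
    rw [hcomm (x * x) _ hxx (SetLike.coe_mem _), MulAut.conjNormal_apply]
    group
  refine abelian_module_false ρ ι' (fun u v h => D.inj (congrArg Subtype.val (hmkinj _ _ h)))
    (fun A v => ?_) (fun z hz => ?_) ⟨k, fun z => ?_⟩ (mk s) ?_ (fun z hz => ?_) ?_
  · obtain ⟨h, hh⟩ := D.exists_induces hlift A
    refine (hρ A h hh _).trans (congrArg (fun c : D.cent => mk c) (Subtype.ext ?_))
    rw [MulAut.conjNormal_apply]
    exact hh v
  · obtain ⟨c, rfl⟩ : ∃ c, mk c = z := QuotientGroup.mk_surjective z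
    obtain ⟨v, hv⟩ := D.inv_mem c (congrArg Subtype.val (hmkinj (c * c) 1 hz))
    exact ⟨v, congrArg mk (Subtype.ext hv)⟩
  · obtain ⟨c, rfl⟩ : ∃ c, mk c = z := QuotientGroup.mk_surjective z
    show mk (c ^ 2 ^ k) = mk 1
    rw [← hk, pow_card_eq_one']
  · refine (hρ pX x hx s).trans (congrArg mk (Subtype.ext ?_))
    rw [MulAut.conjNormal_apply]
    show x * (x * x) * x⁻¹ = x * x
    group
  · obtain ⟨c, rfl⟩ : ∃ c, mk c = z := QuotientGroup.mk_surjective z
    change mk s + ρ pX (Additive.ofMul (QuotientGroup.mk c)) + mk c = mk 1 at hz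
    rw [hρ pX x hx c] at hz
    have h1 := hmkinj (s * MulAut.conjNormal x c * c) 1 hz
    obtain ⟨v, hv⟩ := D.inv_mem (x * c) (by rw [hsq c, h1]; rfl)
    have hfix : x ∈ D.cent := by
      have h : x * c ∈ D.cent := hv ▸ D.ι_mem_cent v
      simpa using D.cent.mul_mem h (D.cent.inv_mem c.2)
    have h0 := D.inj ((hx ![0, 1, 0]).symm.trans (D.conj_cent hfix _))
    exact pX_moves h0
  · have hww : x⁻¹ * (w * w) ∈ D.cent := D.inv_mul_mem_cent hx (by
      rw [show pX = pU * pU by decide +kernel]; exact D.induces_mul hw hw)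
    set c : D.cent := ⟨_, hww⟩
    refine ⟨mk c, ?_⟩
    have hz : mk s + ρ pX (mk c) + mk c = mk (s * MulAut.conjNormal x c * c) :=
      congrArg (fun t => mk s + t + mk c) (hρ pX x hx c)
    rw [hz]
    refine (hρ pU w hw _).trans (congrArg mk (Subtype.ext ?_))
    rw [MulAut.conjNormal_apply, ← hsq c]
    show w * ((x * (x⁻¹ * (w * w))) * (x * (x⁻¹ * (w * w)))) * w⁻¹ =
      (x * (x⁻¹ * (w * w))) * (x * (x⁻¹ * (w * w)))
    group

/-- With a special centraliser. -/
theorem false_of_special {H : Type*} [Group H] [Finite H] (D : Cfg H V3) (hlift : D.AllLift)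
    (hsp : IsSpecialTwo D.cent) (hna : ¬ ∀ a b : D.cent, a * b = b * a) : False := by
  classical
  obtain ⟨ρ, hρ⟩ := D.exists_action hlift (center D.cent) hsp.comm_mem
  letI : CommGroup (D.cent ⧸ center D.cent) :=
    { (inferInstance : Group (D.cent ⧸ center D.cent)) with
      mul_comm := by
        rintro ⟨a⟩ ⟨b⟩
        exact QuotientGroup.eq.2 (hsp.comm_mem a b) }
  let mk : D.cent → Additive (D.cent ⧸ center D.cent) := fun c => Additive.ofMul (QuotientGroup.mk c)
  have hmk : ∀ z, ∃ c, mk c = z := fun z => QuotientGroup.mk_surjective z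
  -- squares
  have hex : ∀ c : D.cent, ∃ v, D.ι v = (c : H) * c := fun c => by
    obtain ⟨v, hv⟩ := D.inv_mem ((c : H) * c)
      (congrArg Subtype.val ((hsp.center_iff _).1 (hsp.sq_mem c)))
    exact ⟨v, hv⟩
  choose e he using hex
  have hez : ∀ c z : D.cent, z ∈ center D.cent → e (c * z) = e c := by
    intro c z hz
    refine D.inj ?_
    rw [he, he]
    refine congrArg Subtype.val (?_ : (c * z) * (c * z) = c * c)
    rw [← Commute.mul_mul_mul_comm ((mem_center_iff.1 hz c) : Commute c z), (hsp.center_iff z).1 hz,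
      mul_one]
  choose out hout using hmk
  let q : Additive (D.cent ⧸ center D.cent) → V3 := fun z => e (out z)
  have hqmk : ∀ c, q (mk c) = e c := fun c => by
    have h : c⁻¹ * out (mk c) ∈ center D.cent := QuotientGroup.eq.1 (hout (mk c)).symm
    show e (out (mk c)) = e c
    conv_lhs => rw [show out (mk c) = c * (c⁻¹ * out (mk c)) from (mul_inv_cancel_left _ _).symm]
    exact hez c _ h
  -- commutators
  set K : D.cent → D.cent → D.cent := fun c d => (c * d)⁻¹ * (d * c) with hKdef
  have hdc : ∀ c d, d * c = c * d * K c d := fun c d => (mul_inv_cancel_left _ _).symm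
  have hKc : ∀ c d g, g * K c d = K c d * g := fun c d g => mem_center_iff.1 (hsp.comm_mem c d) g
  have hKl : ∀ c c' d, K (c * c') d = K c d * K c' d := by
    intro c c' d
    refine mul_left_cancel (a := c * c' * d) ?_
    rw [← hdc]
    calc d * (c * c') = d * c * c' := (mul_assoc _ _ _).symm
      _ = c * d * (K c d * c') := by rw [hdc c d, mul_assoc]
      _ = c * d * c' * K c d := by rw [← hKc c d c', ← mul_assoc]
      _ = c * (d * c') * K c d := by rw [mul_assoc c d]
      _ = c * (c' * d * K c' d) * K c d := by rw [hdc c' d]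
      _ = c * c' * d * (K c' d * K c d) := by group
      _ = c * c' * d * (K c d * K c' d) := by rw [hKc c' d (K c d)]
  have hpolK : ∀ c d, D.ι (pol q (mk c) (mk d)) = (K c d : H) := by
    intro c d
    show D.ι (q (mk (c * d)) + q (mk c) + q (mk d)) = _
    rw [hqmk, hqmk, hqmk, D.map_add, D.map_add, he, he, he]
    have h : c * d * (c * d) * (c * c) * (d * d) = K c d := by
      have hcc : ∀ c g : D.cent, g * (c * c) = c * c * g := fun c g =>
        mem_center_iff.1 (hsp.sq_mem c) g
      have h1 : c * d * (c * d) = c * c * (d * d) * K c d := by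
        calc c * d * (c * d) = c * (d * c) * d := by group
          _ = c * (c * d * K c d) * d := by rw [hdc c d]
          _ = c * c * d * (K c d * d) := by group
          _ = c * c * d * (d * K c d) := by rw [hKc]
          _ = _ := by group
      have hA := (hsp.center_iff _).1 (hsp.sq_mem c)
      have hB := (hsp.center_iff _).1 (hsp.sq_mem d)
      rw [h1]
      generalize hAdef : c * c = A at hA ⊢
      generalize hBdef : d * d = B at hB ⊢
      have hAc : ∀ g, g * A = A * g := fun g => hAdef ▸ hcc c g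
      have hBc : ∀ g, g * B = B * g := fun g => hBdef ▸ hcc d g
      calc A * B * K c d * A * B = A * B * (K c d * A) * B := by group
        _ = A * B * (A * K c d) * B := by rw [hAc]
        _ = A * (B * A) * (K c d * B) := by group
        _ = A * (A * B) * (B * K c d) := by rw [hAc B, hBc (K c d)]
        _ = A * A * (B * B) * K c d := by group
        _ = K c d := by rw [hA, hB, one_mul, one_mul]
    exact congrArg Subtype.val h
  have hq : IsAniso q :=
    { two_left := fun z => by
        obtain ⟨c, rfl⟩ : ∃ c, mk c = z := ⟨_, hout z⟩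
        exact congrArg Additive.ofMul ((QuotientGroup.eq_one_iff _).2 (hsp.sq_mem c))
      two_right := V3_add_self
      add := fun a b d => by
        obtain ⟨a, rfl⟩ : ∃ c, mk c = a := ⟨_, hout a⟩
        obtain ⟨b, rfl⟩ : ∃ c, mk c = b := ⟨_, hout b⟩
        obtain ⟨d, rfl⟩ : ∃ c, mk c = d := ⟨_, hout d⟩
        refine D.inj ?_
        rw [D.map_add, hpolK, hpolK]
        exact (hpolK (a * b) d).trans (congrArg Subtype.val (hKl a b d))
      zero := D.inj (by
        show D.ι (q (mk 1)) = _
        rw [hqmk, he, D.ι_zero]; simp)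
      aniso := fun z hz => by
        obtain ⟨c, rfl⟩ : ∃ c, mk c = z := ⟨_, hout z⟩
        rw [hqmk] at hz
        refine congrArg Additive.ofMul ((QuotientGroup.eq_one_iff c).2 ((hsp.center_iff c).2 ?_))
        have h := he c
        rw [hz, D.ι_zero] at h
        exact Subtype.ext h.symm }
  refine hna fun c d => ?_
  have hequiv : ∀ (A : M3ˣ) z, q (ρ A z) = (A : M3) *ᵥ q z := by
    intro A z
    obtain ⟨c, rfl⟩ : ∃ c, mk c = z := ⟨_, hout z⟩
    obtain ⟨h, hh⟩ := D.exists_induces hlift A
    rw [hqmk]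
    refine (congrArg q (hρ A h hh c)).trans ((hqmk _).trans (D.inj ?_))
    rw [he, ← hh, he, MulAut.conjNormal_apply]
    group
  have h0 := hpolK c d
  rw [pol_eq_zero hq ρ hequiv, D.ι_zero] at h0
  rw [hdc c d, show K c d = 1 from Subtype.ext h0.symm, mul_one]

/-- Rank three. -/
theorem no_three : ∀ (m : ℕ) (H : Type u) [Group H] [Finite H] (D : Cfg H V3),
    Nat.card H = m → D.AllLift → False := by
  intro m
  induction m using Nat.strong_induction_on with
  | _ m ih =>
    intro H _ _ D hm hlift
    subst hm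
    haveI : Fact (Nat.Prime 2) := ⟨Nat.prime_two⟩
    set O := Cfsg.oddCore H with hO
    have hOodd : Odd (Nat.card O) := Nat.coprime_two_right.1 (PLocal.coprime_card_pPrimeCore 2 H)
    by_cases hO1 : O = ⊥
    swap
    · refine ih _ ?_ (H ⧸ O) (D.quot O hOodd) rfl (D.quot_allLift O hOodd hlift)
      rw [O.card_eq_card_quotient_mul_card_subgroup]
      exact lt_mul_of_one_lt_right Nat.card_pos (O.one_lt_card_iff_ne_bot.2 hO1)
    -- the centraliser is a 2-group
    have hP : IsPGroup 2 D.cent := by
      refine IsPGroup.of_card (Nat.eq_prime_pow_of_unique_prime_dvd Nat.card_pos.ne'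
        fun {r} hr hrd => ?_)
      by_contra hr2
      haveI : Fact r.Prime := ⟨hr⟩
      obtain ⟨R⟩ : Nonempty (Sylow r D.cent) := inferInstance
      set R' : Subgroup H := (R : Subgroup D.cent).map D.cent.subtype with hR'
      set N := normalizer (R' : Set H) with hN
      have hιN : ∀ v, D.ι v ∈ N := fun v => by
        have hfix : ∀ y ∈ R', D.ι v * y * (D.ι v)⁻¹ = y := by
          intro y hy
          obtain ⟨c, -, rfl⟩ := hy
          show D.ι v * (c : H) * (D.ι v)⁻¹ = (c : H)
          rw [D.mem_cent.1 c.2 v, mul_inv_cancel_right]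
        refine Subgroup.mem_normalizer_iff.2 fun y => ⟨fun hy => by rw [hfix y hy]; exact hy,
          fun hy => ?_⟩
        have h := hfix _ hy
        rw [D.ι_inv] at h hy
        have e : D.ι v * (D.ι v * y * D.ι v) * D.ι v = y := by
          calc D.ι v * (D.ι v * y * D.ι v) * D.ι v
              = D.ι v * D.ι v * y * (D.ι v * D.ι v) := by group
            _ = y := by rw [D.ι_sq, one_mul, mul_one]
        rw [e] at h
        rwa [← h] at hy
      by_cases htop : N = ⊤
      · haveI : R'.Normal := normalizer_eq_top_iff.1 htop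
        obtain ⟨j, hj⟩ := IsPGroup.iff_card.1 R.isPGroup'
        have hle : R' ≤ O := PLocal.le_pPrimeCore (by
          rw [hR', card_map_of_injective D.cent.subtype_injective, hj]
          exact Nat.Coprime.pow_left j ((Nat.coprime_primes hr Nat.prime_two).2 hr2))
        rw [hO1, le_bot_iff, hR', map_eq_bot_iff_of_injective _ D.cent.subtype_injective] at hle
        exact R.ne_bot_of_dvd_card hrd hle
      · refine ih (Nat.card N) (lt_of_le_of_ne (Subgroup.card_le_card_group N) fun h =>
          htop (Subgroup.eq_top_of_card_eq N h)) N (D.restrict N hιN) rfl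
          (D.restrict_allLift N hιN fun A => ?_)
        obtain ⟨h, hh⟩ := hlift A
        obtain ⟨y, hy, c, hc, rfl⟩ : ∃ y ∈ N, ∃ c ∈ D.cent, y * c = h := by
          have h' : h ∈ N ⊔ D.cent := by
            rw [hN, hR', Sylow.normalizer_sup_eq_top R]; exact mem_top h
          exact mem_sup_of_normal_right.1 h'
        refine ⟨y, hy, fun v => ?_⟩
        rw [← hh v]
        conv_lhs => rw [← D.conj_cent hc v]
        group
    -- a transitive automorphism
    obtain ⟨g, hg⟩ := D.exists_induces hlift seven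
    have hgpow : ∀ i : ℕ, D.Induces (g ^ i) (seven ^ i) := by
      intro i
      induction i with
      | zero => rw [pow_zero, pow_zero]; exact D.induces_one
      | succ i ihi => rw [pow_succ, pow_succ]; exact D.induces_mul ihi hg
    have hne : ∀ v : V3, v ≠ 0 → (⟨D.ι v, D.ι_mem_cent v⟩ : D.cent) ≠ 1 := fun v hv h =>
      hv (D.inj ((congrArg Subtype.val h).trans D.ι_zero.symm))
    rcases abelian_or_special hP (MulAut.conjNormal g)
      ⟨⟨D.ι e0, D.ι_mem_cent e0⟩, ⟨D.ι ![0, 1, 0], D.ι_mem_cent _⟩,
        fun h => e0_ne_e1 (D.inj (congrArg Subtype.val h)),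
        hne e0 e0_ne, Subtype.ext (D.ι_sq _), hne _ e1_ne, Subtype.ext (D.ι_sq _)⟩
      (fun a b ha ha2 hb hb2 => by
        obtain ⟨v, hv⟩ := D.inv_mem a (congrArg Subtype.val ha2)
        obtain ⟨w, hw⟩ := D.inv_mem b (congrArg Subtype.val hb2)
        obtain ⟨i, hi⟩ := seven_trans v w
          (fun h => ha (Subtype.ext (by rw [← hv, h, D.ι_zero]; rfl)))
          (fun h => hb (Subtype.ext (by rw [← hw, h, D.ι_zero]; rfl)))
        refine ⟨(i : ℕ), Subtype.ext ?_⟩
        rw [zpow_natCast, ← map_pow, MulAut.conjNormal_apply, ← hv, hgpow i v, Units.val_pow_eq_pow_val,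
          hi, hw]) with hab | hsp
    · exact false_of_comm D hlift hP hab
    · by_cases hab : ∀ a b : D.cent, a * b = b * a
      · exact false_of_comm D hlift hP hab
      · exact false_of_special D hlift hsp hab

/-- Appending coordinates. -/
def splitTwo (m : ℕ) : V2 × (Fin m → ZMod 2) ≃+ (Fin (2 + m) → ZMod 2) :=
  { Fin.appendEquiv 2 m with
    map_add' := fun x y => by
      funext i
      refine Fin.addCases (fun i => ?_) (fun i => ?_) i <;> simp [Fin.appendEquiv] }

/-- **All odd ranks at least three.** -/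
theorem no_gl {n : ℕ} (hn : Odd n) (h3 : 3 ≤ n) {H : Type u} [Group H] [Finite H]
    (D : Cfg H (Fin n → ZMod 2)) (hlift : D.AllLift) : False := by
  obtain ⟨j, rfl⟩ : ∃ j, n = 3 + 2 * j := by
    obtain ⟨l, rfl⟩ := hn
    exact ⟨l - 1, by omega⟩
  clear hn h3
  induction j generalizing H with
  | zero => exact no_three _ H D rfl hlift
  | succ j ih =>
    have e : 2 + (3 + 2 * j) = 3 + 2 * (j + 1) := by ring
    let f : V2 × (Fin (3 + 2 * j) → ZMod 2) ≃+ (Fin (3 + 2 * (j + 1)) → ZMod 2) :=
      (splitTwo (3 + 2 * j)).trans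
        { Equiv.arrowCongr (finCongr e) (Equiv.refl (ZMod 2)) with map_add' := fun _ _ => rfl }
    obtain ⟨K, D', hD'⟩ := (D.comap f).descend (D.comap_allLift f hlift)
    exact ih D' hD'

end CfsgLib.Pyramidal
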