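import Cfsg.Agent.S0205
import Cfsg.Agent.S0144
import Cfsg.Prelude.Def_CaseTheorems
import Mathlib.LinearAlgebra.Determinant
import Mathlib.LinearAlgebra.Matrix.GeneralLinearGroup.Card

/-!
# The number of elements of an odd normal subgroup inverted by an involution

If a perfect subgroup centralising the involution `t` contains `t`, then the number of elements
inverted by `t` in a normal subgroup of odd order, when a power of the odd prime `p`, is an even
power of `p`, different from `9`.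
-/

set_option autoImplicit false
set_option linter.unusedSectionVars false
set_option linter.style.haveILetI false

namespace CfsgLib.Pyramidal

open Subgroup

/-- A perfect subgroup of a solvable group is trivial. -/
theorem eq_bot_of_perfect {S : Type*} [Group S] [Group.IsSolvable S] {P : Subgroup S}
    (hP : ⁅P, P⁆ = P) : P = ⊥ := by
  obtain ⟨n, hn⟩ := (Group.isSolvable_def (G := S)).1 inferInstance
  suffices ∀ m, P ≤ derivedSeries S m from le_bot_iff.1 (hn ▸ this n)
  intro m
  induction m with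
  | zero => exact le_top
  | succ m ih => rw [derivedSeries_succ, ← hP]; exact commutator_mono ih ih

/-- A perfect group has no non-trivial map to a solvable group. -/
theorem hom_eq_one_of_perfect {G S : Type*} [Group G] [Group S] [Group.IsSolvable S]
    {R : Subgroup G} (hR : ⁅R, R⁆ = R) (f : ↥R →* S) (x : ↥R) : f x = 1 := by
  have h0 : ⁅(⊤ : Subgroup ↥R), (⊤ : Subgroup ↥R)⁆ = ⊤ := by
    refine map_injective R.subtype_injective ?_
    rw [map_commutator, ← MonoidHom.range_eq_map, range_subtype, hR]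
  have h1 : (⊤ : Subgroup ↥R).map f = ⊥ := eq_bot_of_perfect (by rw [← map_commutator, h0])
  rw [← Subgroup.mem_bot, ← h1]
  exact ⟨x, mem_top x, rfl⟩

variable {G : Type*} [Group G] [Finite G]

/-- The elements of `N` inverted by `t`. -/
abbrev Inverted (t : G) (N : Subgroup G) : Type _ := {x : G // x ∈ N ∧ t * x * t = x⁻¹}

theorem inverted_iff {t x : G} (ht : t * t = 1) :
    t * x * t = x⁻¹ ↔ (t * x) * (t * x) = 1 := by
  constructor
  · intro h
    rw [← mul_assoc, h, inv_mul_cancel]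
  · intro h
    exact eq_inv_of_mul_eq_one_left (by rw [mul_assoc (t * x) t x]; exact h)

/-- An inverted element of odd order is a commutator with `t`. -/
theorem exists_conj_of_inverted {t x : G} (ht : t * t = 1) (hx : t * x * t = x⁻¹) (N : Subgroup G)
    (hN : Odd (Nat.card N)) (hxN : x ∈ N) : ∃ z ∈ N, z⁻¹ * t * z = t * x := by
  obtain ⟨j, hj⟩ := hN.of_dvd_nat (Subgroup.orderOf_dvd_natCard N hxN)
  refine ⟨x ^ (j + 1), N.pow_mem hxN _, ?_⟩
  have htinv : t⁻¹ = t := inv_eq_of_mul_eq_one_right ht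
  have h1 : t * x ^ (j + 1) * t = (x ^ (j + 1))⁻¹ := by
    have h2 : (t * x * t⁻¹) ^ (j + 1) = t * x ^ (j + 1) * t⁻¹ := conj_pow
    rw [htinv, hx, inv_pow] at h2
    exact h2.symm
  calc (x ^ (j + 1))⁻¹ * t * x ^ (j + 1) = t * x ^ (j + 1) * t * t * x ^ (j + 1) := by rw [h1]
    _ = t * (x ^ (j + 1) * x ^ (j + 1)) := by
      rw [mul_assoc (t * x ^ (j + 1)) t t, ht, mul_one, mul_assoc]
    _ = t * x := by
      rw [← pow_add, show j + 1 + (j + 1) = 2 * j + 1 + 1 by ring, ← hj, pow_succ,
        pow_orderOf_eq_one, one_mul]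

variable (M : Subgroup G) [M.Normal]

/-- The inverted subgroup of an abelian normal section. -/
def negPart (t : G) (N : Subgroup G)
    (hcomm : ∀ x ∈ N, ∀ y ∈ N, (x * y)⁻¹ * (y * x) ∈ M) : Subgroup (G ⧸ M) where
  carrier := {v | v ∈ N.map (QuotientGroup.mk' M) ∧
    QuotientGroup.mk' M t * v * (QuotientGroup.mk' M t)⁻¹ = v⁻¹}
  mul_mem' := by
    rintro a b ⟨ha, ha'⟩ ⟨hb, hb'⟩
    refine ⟨mul_mem ha hb, ?_⟩
    have hc : b * a = a * b := by
      obtain ⟨x, hx, rfl⟩ := ha
      obtain ⟨y, hy, rfl⟩ := hb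
      rw [← map_mul, ← map_mul]
      exact (QuotientGroup.eq.2 (hcomm x hx y hy)).symm
    rw [← conj_mul, ha', hb', ← mul_inv_rev, hc]
  one_mem' := ⟨one_mem _, by group⟩
  inv_mem' := by
    rintro a ⟨ha, ha'⟩
    exact ⟨inv_mem ha, by rw [← conj_inv, ha']⟩

/-- The count is multiplicative. -/
theorem card_inverted {t : G} (ht : t * t = 1) {N : Subgroup G} [N.Normal] (hMN : M ≤ N)
    (hN : Odd (Nat.card N)) (hcomm : ∀ x ∈ N, ∀ y ∈ N, (x * y)⁻¹ * (y * x) ∈ M) :
    Nat.card (Inverted t N) = Nat.card (negPart M t N hcomm) * Nat.card (Inverted t M) := by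
  classical
  have htinv : t⁻¹ = t := inv_eq_of_mul_eq_one_right ht
  set π := QuotientGroup.mk' M with hπ
  let Φ : Inverted t N → negPart M t N hcomm := fun x =>
    ⟨π x.1, ⟨x.1, x.2.1, rfl⟩, by
      rw [← map_inv, ← map_mul, ← map_mul, htinv, x.2.2, map_inv]⟩
  have hsurj : ∀ v : negPart M t N hcomm, ∃ x : Inverted t N, Φ x = v := by
    rintro ⟨v, ⟨a, ha, rfl⟩, hv⟩
    obtain ⟨j, hj⟩ := hN
    set z := a ^ (j + 1) with hz
    have hzN : z ∈ N := N.pow_mem ha _
    have hmem : t * z⁻¹ * t * z ∈ N := by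
      refine N.mul_mem ?_ hzN
      have h := Subgroup.Normal.conj_mem inferInstance _ (N.inv_mem hzN) t
      rwa [htinv] at h
    refine ⟨⟨_, hmem, ?_⟩, Subtype.ext ?_⟩
    · rw [inverted_iff ht]
      calc t * (t * z⁻¹ * t * z) * (t * (t * z⁻¹ * t * z))
          = (t * t) * z⁻¹ * t * z * ((t * t) * z⁻¹ * t * z) := by group
        _ = z⁻¹ * t * z * (z⁻¹ * t * z) := by rw [ht, one_mul]
        _ = z⁻¹ * (t * t) * z := by group
        _ = 1 := by rw [ht]; group
    · show π (t * z⁻¹ * t * z) = π a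
      have h1 : π t * π a⁻¹ * π t = π a := by
        have h := congrArg (·⁻¹) hv
        rw [inv_inv, conj_inv, ← map_inv, ← map_inv, htinv] at h
        exact h
      have h2 : π (t * z⁻¹ * t) = π z := by
        rw [map_mul, map_mul, hz, map_inv, map_pow, ← inv_pow, ← map_inv]
        conv_rhs => rw [← h1]
        rw [show π t * π a⁻¹ * π t = π t * π a⁻¹ * (π t)⁻¹ by rw [← map_inv π t, htinv], conj_pow,
          ← map_inv π t, htinv]
      rw [map_mul, h2, hz, map_pow, ← pow_add, show j + 1 + (j + 1) = 2 * j + 1 + 1 by ring, ← hj,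
        pow_succ, ← map_pow,
        orderOf_dvd_iff_pow_eq_one.1 (Subgroup.orderOf_dvd_natCard N ha), map_one, one_mul]
  have hfib : ∀ v, Nat.card {x // Φ x = v} = Nat.card (Inverted t M) := by
    intro v
    obtain ⟨x₀, rfl⟩ := hsurj v
    obtain ⟨z, hzN, hz⟩ := exists_conj_of_inverted ht x₀.2.2 N hN x₀.2.1
    refine Nat.card_congr
      { toFun := fun x => ⟨t * (z * (t * x.1.1) * z⁻¹), ?_, ?_⟩
        invFun := fun y => ⟨⟨t * (z⁻¹ * (t * y.1) * z), ?_, ?_⟩, Subtype.ext ?_⟩
        left_inv := fun x => ?_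
        right_inv := fun y => ?_ }
    · refine (QuotientGroup.eq_one_iff _).1 ?_
      show π (t * (z * (t * x.1.1) * z⁻¹)) = 1
      have hx : π x.1.1 = π x₀.1 := congrArg Subtype.val x.2
      rw [map_mul, map_mul, map_mul, map_mul π t x.1.1, hx, ← map_mul π t x₀.1, ← hz, ← map_mul,
        ← map_mul, ← map_mul]
      rw [show t * (z * (z⁻¹ * t * z) * z⁻¹) = t * t by group, ht, map_one]
    · rw [inverted_iff ht, ← mul_assoc t t, ht, one_mul, conj_mul, (inverted_iff ht).1 x.1.2.2,
        mul_one, mul_inv_cancel]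
    · have hyN : y.1 ∈ N := hMN y.2.1
      have h : t * (z⁻¹ * (t * y.1) * z) = (t * z⁻¹ * t⁻¹) * (y.1 * z) := by rw [htinv]; group
      rw [h]
      exact N.mul_mem (Subgroup.Normal.conj_mem inferInstance _ (N.inv_mem hzN) t)
        (N.mul_mem hyN hzN)
    · rw [inverted_iff ht, ← mul_assoc t t, ht, one_mul]
      calc z⁻¹ * (t * y.1) * z * (z⁻¹ * (t * y.1) * z) = z⁻¹ * (t * y.1 * (t * y.1)) * z := by group
        _ = 1 := by rw [(inverted_iff ht).1 y.2.2, mul_one, inv_mul_cancel]
    · show π (t * (z⁻¹ * (t * y.1) * z)) = π x₀.1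
      have hy : π y.1 = 1 := (QuotientGroup.eq_one_iff _).2 y.2.1
      rw [map_mul, map_mul, map_mul, map_mul π t y.1, hy, mul_one, ← map_mul π z⁻¹, ← map_mul,
        hz, ← map_mul, ← mul_assoc, ht, one_mul]
    · refine Subtype.ext (Subtype.ext ?_)
      show t * (z⁻¹ * (t * (t * (z * (t * x.1.1) * z⁻¹))) * z) = x.1.1
      rw [← mul_assoc t t, ht, one_mul]
      calc t * (z⁻¹ * (z * (t * x.1.1) * z⁻¹) * z) = t * t * x.1.1 := by group
        _ = x.1.1 := by rw [ht, one_mul]
    · refine Subtype.ext ?_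
      show t * (z * (t * (t * (z⁻¹ * (t * y.1) * z))) * z⁻¹) = y.1
      rw [← mul_assoc t t, ht, one_mul]
      calc t * (z * (z⁻¹ * (t * y.1) * z) * z⁻¹) = t * t * y.1 := by group
        _ = y.1 := by rw [ht, one_mul]
  haveI : Fintype (negPart M t N hcomm) := Fintype.ofFinite _
  rw [← Nat.card_congr (Equiv.sigmaFiberEquiv Φ), Nat.card_sigma]
  simp only [hfib, Finset.sum_const, Finset.card_univ, smul_eq_mul, Nat.card_eq_fintype_card]

omit M in
/-- **Parity.** -/
theorem inverted_parity {p : ℕ} (hp : p.Prime) (hp2 : p ≠ 2) {t : G} (ht : t * t = 1)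
    {R : Subgroup G} (hR : ⁅R, R⁆ = R) (htR : t ∈ R) (hRt : ∀ c ∈ R, c * t = t * c) :
    ∀ (m : ℕ) (N : Subgroup G) [N.Normal], Nat.card N = m → Odd (Nat.card N) →
      (∃ l, Nat.card (Inverted t N) = p ^ l) →
        ∃ i, Nat.card (Inverted t N) = p ^ (2 * i) ∧ (p = 3 → i ≠ 1) := by
  intro m
  induction m using Nat.strong_induction_on with
  | _ m ih =>
    intro N _ hm hodd hpow
    subst hm
    classical
    haveI hp' : Fact p.Prime := ⟨hp⟩
    by_cases hN : N = ⊥
    · refine ⟨0, ?_, fun _ => zero_ne_one⟩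
      subst hN
      haveI : Subsingleton (Inverted t (⊥ : Subgroup G)) :=
        ⟨fun x y => Subtype.ext ((Subgroup.mem_bot.1 x.2.1).trans (Subgroup.mem_bot.1 y.2.1).symm)⟩
      haveI : Nonempty (Inverted t (⊥ : Subgroup G)) :=
        ⟨⟨1, one_mem _, by rw [mul_one, ht, inv_one]⟩⟩
      rw [mul_zero, pow_zero]
      exact Nat.card_eq_one_iff_unique.2 ⟨inferInstance, inferInstance⟩
    haveI : Group.IsSolvable N := Cfsg.Agent.S0205.result hodd
    set K := ⁅N, N⁆ with hK
    set πK := QuotientGroup.mk' K with hπK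
    have hKN : K ≤ N := commutator_le_self N
    have hKne : K ≠ N := by
      intro h
      refine hN ?_
      have h1 : ⁅(⊤ : Subgroup N), (⊤ : Subgroup N)⁆ = ⊤ := by
        refine map_injective N.subtype_injective ?_
        rw [map_commutator, ← MonoidHom.range_eq_map, range_subtype, ← hK, h]
      have h2 := congrArg (map N.subtype) (eq_bot_of_perfect h1)
      rwa [← MonoidHom.range_eq_map, range_subtype, Subgroup.map_bot] at h2
    have hAcomm : ∀ a ∈ N, ∀ b ∈ N, Commute (πK a) (πK b) := by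
      intro a ha b hb
      show πK a * πK b = πK b * πK a
      rw [← map_mul, ← map_mul]
      refine QuotientGroup.eq.2 ?_
      have h := commutator_mem_commutator (N.inv_mem hb) (N.inv_mem ha)
      rwa [commutatorElement_def, inv_inv, inv_inv, ← mul_inv_rev, mul_assoc] at h
    obtain ⟨r, hr, hrd⟩ := Nat.exists_prime_and_dvd (n := Nat.card (N.map πK)) (fun h => hKne
      (le_antisymm hKN (by
        have h' := card_eq_one.1 h
        rwa [Subgroup.map_eq_bot_iff, QuotientGroup.ker_mk'] at h')))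
    haveI : Fact r.Prime := ⟨hr⟩
    let M : Subgroup G :=
      { carrier := {x | x ∈ N ∧ ∃ y ∈ N, πK x = πK y ^ r}
        mul_mem' := by
          rintro a b ⟨ha, y, hy, hay⟩ ⟨hb, z, hz, hbz⟩
          exact ⟨N.mul_mem ha hb, y * z, N.mul_mem hy hz, by
            rw [map_mul, map_mul, (hAcomm y hy z hz).mul_pow, hay, hbz]⟩
        one_mem' := ⟨N.one_mem, 1, N.one_mem, by rw [map_one, one_pow]⟩
        inv_mem' := by
          rintro a ⟨ha, y, hy, hay⟩
          exact ⟨N.inv_mem ha, y⁻¹, N.inv_mem hy, by rw [map_inv, map_inv, inv_pow, hay]⟩ }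
    haveI : M.Normal := ⟨fun a ⟨ha, y, hy, hay⟩ g =>
      ⟨Subgroup.Normal.conj_mem inferInstance a ha g, g * y * g⁻¹,
        Subgroup.Normal.conj_mem inferInstance y hy g, by
          simp only [map_mul, map_inv, conj_pow, hay]⟩⟩
    have hKM : ∀ x ∈ K, x ∈ M := fun x hx => ⟨hKN hx, 1, N.one_mem, by
      rw [map_one, one_pow]; exact (QuotientGroup.eq_one_iff x).2 hx⟩
    have hMN : M ≤ N := fun x hx => hx.1
    have hlt : Nat.card M < Nat.card N := by
      refine lt_of_le_of_ne (Nat.le_of_dvd Nat.card_pos (card_dvd_of_le hMN)) fun h => ?_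
      have hMeq : M = N := eq_of_le_of_card_ge hMN h.ge
      obtain ⟨⟨a, ha⟩, hao⟩ := exists_prime_orderOf_dvd_card' r hrd
      set f : ↥(N.map πK) → ↥(N.map πK) := fun v => v ^ r
      have hfs : Function.Surjective f := by
        rintro ⟨v, x, hx, rfl⟩
        obtain ⟨-, y, hy, hxy⟩ := hMeq.ge hx
        exact ⟨⟨πK y, y, hy, rfl⟩, Subtype.ext hxy.symm⟩
      have h1 : f ⟨a, ha⟩ = f 1 := by
        show (⟨a, ha⟩ : ↥(N.map πK)) ^ r = (1 : ↥(N.map πK)) ^ r
        rw [one_pow, ← hao, pow_orderOf_eq_one]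
      have h2 := Finite.injective_iff_surjective.2 hfs h1
      rw [h2, orderOf_one] at hao
      exact hr.ne_one hao.symm
    have hrM : ∀ x ∈ N, x ^ r ∈ M := fun x hx => ⟨N.pow_mem hx r, x, hx, map_pow _ _ _⟩
    have hcomm : ∀ x ∈ N, ∀ y ∈ N, (x * y)⁻¹ * (y * x) ∈ M := by
      intro x hx y hy
      refine hKM _ ?_
      have h := commutator_mem_commutator (N.inv_mem hy) (N.inv_mem hx)
      rwa [commutatorElement_def, inv_inv, inv_inv, ← mul_inv_rev, mul_assoc] at h
    have hprod := card_inverted M ht hMN hodd hcomm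
    set V := negPart M t N hcomm with hV
    have hVr : ∀ v : V, v ^ r = 1 := by
      rintro ⟨v, ⟨x, hx, rfl⟩, hv⟩
      refine Subtype.ext ?_
      show (QuotientGroup.mk' M x) ^ r = 1
      rw [← map_pow]
      exact (QuotientGroup.eq_one_iff _).2 (hrM x hx)
    letI : CommGroup ↥V := { (inferInstance : Group ↥V) with
      mul_comm := by
        rintro ⟨a, ⟨x, hx, rfl⟩, ha⟩ ⟨b, ⟨y, hy, rfl⟩, hb⟩
        refine Subtype.ext ?_
        show QuotientGroup.mk' M x * QuotientGroup.mk' M y = QuotientGroup.mk' M y * QuotientGroup.mk' M x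
        rw [← map_mul, ← map_mul]
        exact QuotientGroup.eq.2 (hcomm x hx y hy) }
    obtain ⟨l, hl⟩ := hpow
    rw [hprod] at hl
    obtain ⟨lM, -, hlM⟩ := (Nat.dvd_prime_pow hp).1 (Dvd.intro_left _ hl)
    obtain ⟨i, hi, hi3⟩ := ih (Nat.card M) hlt M rfl
      (hodd.of_dvd_nat (card_dvd_of_le hMN)) ⟨lM, hlM⟩
    obtain ⟨lV, -, hlV⟩ := (Nat.dvd_prime_pow hp).1 (Dvd.intro _ hl)
    rw [hprod, hlV, hi]
    by_cases hrp : r = p
    swap
    · refine ⟨i, ?_, hi3⟩
      have h0 : lV = 0 := by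
        by_contra h0
        obtain ⟨v, hv⟩ := exists_prime_orderOf_dvd_card' (G := ↥V) p (hlV ▸ dvd_pow_self p h0)
        exact hrp ((Nat.prime_dvd_prime_iff_eq hp hr).1 (hv ▸ orderOf_dvd_of_pow_eq_one (hVr v))).symm
      rw [h0, pow_zero, one_mul]
    subst hrp
    haveI : Module (ZMod r) (Additive ↥V) := AddCommGroup.zmodModule fun v => hVr (Additive.toMul v)
    have hmemV : ∀ c ∈ R, ∀ v ∈ V,
        QuotientGroup.mk' M c * v * (QuotientGroup.mk' M c)⁻¹ ∈ V := by
      rintro c hc v ⟨⟨x, hx, rfl⟩, hv⟩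
      refine ⟨⟨c * x * c⁻¹, Subgroup.Normal.conj_mem inferInstance x hx c, by simp only [map_mul, map_inv]⟩, ?_⟩
      have hct : QuotientGroup.mk' M t * QuotientGroup.mk' M c =
          QuotientGroup.mk' M c * QuotientGroup.mk' M t := by rw [← map_mul, ← map_mul, hRt c hc]
      rw [conj_inv, ← hv]
      generalize QuotientGroup.mk' M t = a at hct
      generalize QuotientGroup.mk' M c = b at hct
      generalize QuotientGroup.mk' M x = y
      calc a * (b * y * b⁻¹) * a⁻¹ = (a * b) * y * (a * b)⁻¹ := by group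
        _ = (b * a) * y * (b * a)⁻¹ := by rw [hct]
        _ = b * (a * y * a⁻¹) * b⁻¹ := by group
    let act : ↥R → Additive ↥V →+ Additive ↥V := fun c => AddMonoidHom.mk'
      (fun v => Additive.ofMul ⟨_, hmemV c c.2 _ (Additive.toMul v : ↥V).2⟩)
      (fun v w => congrArg Additive.ofMul (Subtype.ext conj_mul.symm))
    let ρ : ↥R →* Module.End (ZMod r) (Additive ↥V) :=
      { toFun := fun c => (act c).toZModLinearMap r
        map_one' := LinearMap.ext fun v => congrArg Additive.ofMul (Subtype.ext (by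
          show QuotientGroup.mk' M ((1 : ↥R) : G) * _ * (QuotientGroup.mk' M ((1 : ↥R) : G))⁻¹ = _
          rw [OneMemClass.coe_one, map_one, one_mul, inv_one, mul_one]; rfl))
        map_mul' := fun c d => LinearMap.ext fun v => congrArg Additive.ofMul (Subtype.ext (by
          show QuotientGroup.mk' M ((c : G) * d) * _ * (QuotientGroup.mk' M ((c : G) * d))⁻¹ =
            QuotientGroup.mk' M (c : G) * (QuotientGroup.mk' M (d : G) * _ *
              (QuotientGroup.mk' M (d : G))⁻¹) * (QuotientGroup.mk' M (c : G))⁻¹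
          rw [map_mul]; group)) }
    have hρt : ρ ⟨t, htR⟩ = (-1 : ZMod r) • LinearMap.id := by
      refine LinearMap.ext fun v => ?_
      rw [LinearMap.smul_apply, LinearMap.id_apply, neg_one_smul]
      exact congrArg Additive.ofMul (Subtype.ext (Additive.toMul v : ↥V).2.2)
    set d := Module.finrank (ZMod r) (Additive ↥V) with hd
    have hcardV : Nat.card ↥V = r ^ d := by
      have h := Module.natCard_eq_pow_finrank (K := ZMod r) (V := Additive ↥V)
      rw [Nat.card_zmod] at h
      exact h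
    have hdl : lV = d := Nat.pow_right_injective hp.two_le (hlV.symm.trans hcardV)
    have hneg : (-1 : ZMod r) ≠ 1 := by
      haveI : Fact (2 < r) := ⟨lt_of_le_of_ne hp.two_le (Ne.symm hp2)⟩
      exact ZMod.neg_one_ne_one
    -- the determinant
    have hdet : (-1 : ZMod r) ^ d = 1 := by
      have h := hom_eq_one_of_perfect hR ((LinearMap.det.comp ρ).toHomUnits) ⟨t, htR⟩
      have h' := congrArg Units.val h
      rw [MonoidHom.coe_toHomUnits, MonoidHom.comp_apply, hρt, LinearMap.det_smul, LinearMap.det_id,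
        mul_one, Units.val_one] at h'
      exact h'
    obtain ⟨i', hi'⟩ := (neg_one_pow_eq_one_iff_even hneg).1 hdet
    refine ⟨i' + i, by rw [hdl, hi', ← pow_add]; congr 1; ring, fun h3 => ?_⟩
    rcases Nat.lt_or_ge i' 1 with h | h
    · rw [Nat.lt_one_iff.1 h, zero_add]; exact hi3 h3
    rcases Nat.lt_or_ge 1 i' with h' | h'
    · omega
    -- `GL₂(3)` is solvable
    exfalso
    subst h3
    have hd2 : d = 2 := by omega
    let b := (Module.finBasis (ZMod 3) (Additive ↥V)).reindex (finCongr hd2)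
    let e : (Module.End (ZMod 3) (Additive ↥V))ˣ ≃* GL (Fin 2) (ZMod 3) :=
      Units.mapEquiv (LinearMap.toMatrixAlgEquiv b).toMulEquiv
    haveI : Group.IsSolvable (GL (Fin 2) (ZMod 3)) :=
      Cfsg.Agent.S0144.result 2 3 4 1 Nat.prime_two Nat.prime_three (by
        rw [Matrix.card_GL_field]
        simp [Fin.prod_univ_two, ZMod.card])
    have h := hom_eq_one_of_perfect hR (e.toMonoidHom.comp ρ.toHomUnits) ⟨t, htR⟩
    have h1 : ρ.toHomUnits ⟨t, htR⟩ = 1 := e.injective (h.trans (map_one e).symm)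
    have h2 : ρ ⟨t, htR⟩ = 1 := (MonoidHom.coe_toHomUnits ρ _).symm.trans (congrArg Units.val h1)
    rw [hρt] at h2
    haveI : Nontrivial (Additive ↥V) := Module.nontrivial_of_finrank_pos (R := ZMod 3)
      (show 0 < d by omega)
    obtain ⟨v, hv⟩ := exists_ne (0 : Additive ↥V)
    have h4 := DFunLike.congr_fun h2 v
    rw [LinearMap.smul_apply, LinearMap.id_apply, Module.End.one_apply] at h4
    have h5 : ((-1 : ZMod 3) - 1) • v = 0 := by rw [sub_smul, h4, one_smul, sub_self]
    rcases smul_eq_zero.1 h5 with h6 | h6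
    · exact hneg (sub_eq_zero.1 h6)
    · exact hv h6

end CfsgLib.Pyramidal
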