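import Cfsg.Agent.S4179
import Cfsg.Agent.Pyramidal.NoGL
import Cfsg.Agent.Pyramidal.CentralizerSolvable
import Cfsg.Agent.Pyramidal.Parity
import Cfsg.Agent.Pyramidal.Example
import Cfsg.Agent.PrimePowerClass.Main
import Cfsg.Agent.GroupBasics.Conjugates
import Cfsg.Agent.AGroups.PerfectPart
import Mathlib.NumberTheory.Fermat

/-!
# Solvability of pyramidal groups of odd prime power parameter
-/

set_option autoImplicit false
set_option linter.unusedSectionVars false
set_option linter.style.haveILetI false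

namespace CfsgLib.Pyramidal

open Subgroup

/-- If `p ^ j + 1` is a power of two with `p` an odd prime and `j ≥ 1`, then `j = 1`. -/
theorem eq_one_of_pow_add_one_eq {p j n : ℕ} (hp : p.Prime) (hp2 : p ≠ 2) (hj : j ≠ 0)
    (h : p ^ j + 1 = 2 ^ n) : j = 1 := by
  have hpo : Odd p := hp.odd_of_ne_two hp2
  have h3 : 3 ≤ p := lt_of_le_of_ne hp.two_le (Ne.symm hp2)
  have hlarge : 4 ≤ 2 ^ n := by
    have := Nat.le_self_pow hj p
    omega
  have hn2 : 2 ≤ n := by
    by_contra hn
    have hh : n = 0 ∨ n = 1 := by omega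
    rcases hh with hh | hh <;> · rw [hh] at hlarge; norm_num at hlarge
  rcases Nat.even_or_odd j with ⟨i, rfl⟩ | hjodd
  · exfalso
    obtain ⟨l, hl⟩ := hpo.pow (n := i)
    obtain ⟨m, rfl⟩ : ∃ m, n = m + 2 := ⟨n - 2, by omega⟩
    rw [pow_add, pow_add, hl] at h
    ring_nf at h
    omega
  · by_contra hj1
    set S : ℤ := ∑ i ∈ Finset.range j, (-(p : ℤ)) ^ i with hS
    have hSmul : S * ((p : ℤ) + 1) = 2 ^ n := by
      have hg := geom_sum_mul (-(p : ℤ)) j
      have he : ((p : ℤ) ^ j + 1) = 2 ^ n := by exact_mod_cast h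
      rw [← hS, hjodd.neg_pow] at hg
      linear_combination -hg + he
    have hSodd : Odd S := by
      have hcast : ((S : ℤ) : ZMod 2) = (j : ZMod 2) := by
        rw [hS, Int.cast_sum]
        have : ∀ i, ((((-(p : ℤ)) ^ i : ℤ)) : ZMod 2) = 1 := by
          intro i
          rw [Int.cast_pow, Int.cast_neg, Int.cast_natCast, (ZMod.natCast_eq_one_iff_odd).2 hpo,
            show (-1 : ZMod 2) = 1 by decide, one_pow]
        simp [this]
      rw [(ZMod.natCast_eq_one_iff_odd).2 hjodd] at hcast
      rw [← Int.not_even_iff_odd, even_iff_two_dvd]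
      intro h2
      have h0 := (ZMod.intCast_zmod_eq_zero_iff_dvd S 2).2 (by exact_mod_cast h2)
      rw [hcast] at h0
      exact one_ne_zero h0
    have habs : S.natAbs * (p + 1) = 2 ^ n := by
      have := congrArg Int.natAbs hSmul
      rw [Int.natAbs_mul, Int.natAbs_pow] at this
      exact_mod_cast this
    obtain ⟨e, -, he⟩ := (Nat.dvd_prime_pow Nat.prime_two).1 (Dvd.intro _ habs)
    rcases e with _ | e
    · rw [he, pow_zero, one_mul] at habs
      have hlt : p ^ 1 < p ^ j := Nat.pow_lt_pow_right hp.one_lt (by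
        obtain ⟨l, hl⟩ := hjodd; omega)
      rw [pow_one] at hlt
      omega
    · have := Int.natAbs_odd.2 hSodd
      rw [he] at this
      exact absurd this (Nat.not_odd_iff_even.2 (by simp [parity_simps]))

variable {G : Type*} [Group G] [Finite G]

/-- One class of involutions gives the index of an involution centraliser. -/
theorem index_eq_of_one_class {t : G} (ht : orderOf t = 2)
    (hone : ∀ x y : G, orderOf x = 2 → orderOf y = 2 → ∃ g : G, g * x * g⁻¹ = y) :
    (centralizer ({t} : Set G)).index = Nat.card {x : G // orderOf x = 2} := by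
  rw [← GroupBasics.card_carrier_eq_index_centralizer]
  show _ = Nat.card {x : G | orderOf x = 2}
  rw [Nat.card_coe_set_eq]
  congr 1
  ext x
  rw [ConjClasses.mem_carrier_iff_mk_eq, ConjClasses.mk_eq_mk_iff_isConj, Set.mem_setOf_eq]
  constructor
  · intro h
    obtain ⟨c, hc⟩ := isConj_iff.1 h.symm
    rw [← hc, show c * t * c⁻¹ = MulAut.conj c t from rfl]
    exact (MulEquiv.orderOf_eq _ t).trans ht
  · intro hx
    obtain ⟨c, hc⟩ := hone t x ht hx
    exact (isConj_iff.2 ⟨c, hc⟩).symm

theorem orderOf_eq_two_iff' {x : G} : orderOf x = 2 ↔ x * x = 1 ∧ x ≠ 1 := by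
  rw [orderOf_eq_prime_iff (p := 2), sq]

/-- **Case one: a unique involution modulo the odd core.** -/
theorem parity_case {p k : ℕ} (hp : p.Prime) (hp2 : p ≠ 2)
    (hcard : Nat.card {x : G // orderOf x = 2} = p ^ k)
    {t : G} (ht : orderOf t = 2)
    (hcore : ∀ x : G, orderOf x = 2 → t * x ∈ Cfsg.oddCore G) (hns : ¬ Group.IsSolvable G) :
    ∃ i, k = 2 * i ∧ (p = 3 → i ≠ 1) := by
  classical
  set O := Cfsg.oddCore G with hO
  obtain ⟨ht2, -⟩ := orderOf_eq_two_iff'.1 ht
  have hOodd : Odd (Nat.card O) := Nat.coprime_two_right.1 (PLocal.coprime_card_pPrimeCore 2 G)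
  haveI : Group.IsSolvable O := Cfsg.Agent.S0205.result hOodd
  have htinv : t⁻¹ = t := inv_eq_of_mul_eq_one_right ht2
  set D := centralizer ({t} : Set G) with hD
  -- involutions of the centraliser
  have hu : ∀ s ∈ D, s * s = 1 → s = 1 ∨ s = t := by
    intro s hs hs2
    by_cases hs1 : s = 1
    · exact Or.inl hs1
    right
    have hx := hcore s (orderOf_eq_two_iff'.2 ⟨hs2, hs1⟩)
    have hc : s * t = t * s := mem_centralizer_singleton_iff.1 hs
    have hxx : (t * s) * (t * s) = 1 := by
      rw [mul_assoc, ← mul_assoc s t s, hc, mul_assoc t s s, hs2, mul_one, ht2]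
    obtain ⟨j, hj⟩ := hOodd
    have h1 : (t * s) ^ (2 * j + 1) = 1 := by
      rw [← hj]; exact orderOf_dvd_iff_pow_eq_one.1 (Subgroup.orderOf_dvd_natCard O hx)
    rw [pow_succ, pow_mul, sq, hxx, one_pow, one_mul] at h1
    rw [eq_inv_of_mul_eq_one_right h1, htinv]
  -- the centraliser is not solvable
  have hDns : ¬ Group.IsSolvable D := by
    intro hsol
    refine hns ?_
    haveI : Group.IsSolvable (G ⧸ O) := by
      refine Group.isSolvable_of_surjective (f := (QuotientGroup.mk' O).comp D.subtype) ?_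
      intro x
      obtain ⟨g, rfl⟩ := QuotientGroup.mk'_surjective O x
      have hord : orderOf (g * t * g⁻¹) = 2 := (MulEquiv.orderOf_eq (MulAut.conj g) t).trans ht
      have hx := hcore _ hord
      have hinv : t * (t * (g * t * g⁻¹)) * t = (t * (g * t * g⁻¹))⁻¹ := by
        rw [inverted_iff ht2, ← mul_assoc t t, ht2, one_mul]
        exact (orderOf_eq_two_iff'.1 hord).1
      obtain ⟨z, hz, hzt⟩ := exists_conj_of_inverted ht2 hinv O hOodd hx
      rw [← mul_assoc t t, ht2, one_mul] at hzt
      refine ⟨⟨z * g, mem_centralizer_singleton_iff.2 ?_⟩, ?_⟩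
      · calc z * g * t = z * (g * t * g⁻¹) * g := by group
          _ = z * (z⁻¹ * t * z) * g := by rw [hzt]
          _ = t * (z * g) := by group
      · show QuotientGroup.mk' O (z * g) = QuotientGroup.mk' O g
        rw [map_mul, show QuotientGroup.mk' O z = 1 from (QuotientGroup.eq_one_iff z).2 hz, one_mul]
    exact Group.isSolvable_of_ker_le_range O.subtype (QuotientGroup.mk' O)
      (by rw [QuotientGroup.ker_mk', range_subtype])
  set R := AGroups.perfectPart D with hR
  have hperf : ⁅R, R⁆ = R := AGroups.perfectPart_perfect D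
  have hRne : R ≠ ⊥ := fun h => hDns (AGroups.isSolvable_of_perfectPart_eq_bot h)
  have hReven : 2 ∣ Nat.card R := by
    rw [← even_iff_two_dvd, ← Nat.not_odd_iff_even]
    intro hodd
    haveI : Group.IsSolvable R := Cfsg.Agent.S0205.result hodd
    refine hRne ?_
    have h1 : ⁅(⊤ : Subgroup R), (⊤ : Subgroup R)⁆ = ⊤ := by
      refine map_injective R.subtype_injective ?_
      rw [map_commutator, ← MonoidHom.range_eq_map, range_subtype, hperf]
    have h2 := congrArg (map R.subtype) (eq_bot_of_perfect h1)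
    rwa [← MonoidHom.range_eq_map, range_subtype, Subgroup.map_bot] at h2
  haveI : Fact (Nat.Prime 2) := ⟨Nat.prime_two⟩
  obtain ⟨⟨s, hs⟩, hso⟩ := exists_prime_orderOf_dvd_card' 2 hReven
  have htR : t ∈ R := by
    obtain ⟨hs2, hs1⟩ := orderOf_eq_two_iff'.1 ((Subgroup.orderOf_mk s hs).symm.trans hso)
    rcases hu s (AGroups.perfectPart_le D hs) hs2 with h | h
    · exact absurd h hs1
    · exact h ▸ hs
  -- counting
  have hJ : Nat.card (Inverted t O) = p ^ k := by
    rw [← hcard]
    refine Nat.card_congr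
      { toFun := fun x => ⟨t * x.1, orderOf_eq_two_iff'.2 ⟨(inverted_iff ht2).1 x.2.2, fun h => ?_⟩⟩
        invFun := fun x => ⟨t * x.1, hcore x.1 x.2, by
          rw [inverted_iff ht2, ← mul_assoc t t, ht2, one_mul]
          exact (orderOf_eq_two_iff'.1 x.2).1⟩
        left_inv := fun x => Subtype.ext (by show t * (t * x.1) = x.1; rw [← mul_assoc, ht2, one_mul])
        right_inv := fun x => Subtype.ext (by
          show t * (t * x.1) = x.1; rw [← mul_assoc, ht2, one_mul]) }
    have hx : x.1 = t := by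
      calc x.1 = t * (t * x.1) := by rw [← mul_assoc, ht2, one_mul]
        _ = t := by rw [h, mul_one]
    obtain ⟨j, hj⟩ := hOodd
    have h1 : t ^ (2 * j + 1) = 1 := by
      rw [← hj]; exact orderOf_dvd_iff_pow_eq_one.1 (Subgroup.orderOf_dvd_natCard O (hx ▸ x.2.1))
    rw [pow_succ, pow_mul, sq, ht2, one_pow, one_mul] at h1
    exact (orderOf_eq_two_iff'.1 ht).2 h1
  obtain ⟨i, hi, h3⟩ := inverted_parity hp hp2 ht2 hperf htR
    (fun c hc => mem_centralizer_singleton_iff.1 (AGroups.perfectPart_le D hc)) _ O rfl hOodd ⟨k, hJ⟩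
  exact ⟨i, Nat.pow_right_injective hp.two_le (hJ.symm.trans hi), h3⟩

/-- **Case two: several involutions modulo the odd core.** -/
theorem several_case {H : Type*} [Group H] [Finite H] {p : ℕ} (hp : p.Prime) (hp2 : p ≠ 2)
    (hO : Cfsg.oddCore H = ⊥) (E : Subgroup H) [E.Normal] (hE : ∀ x : H, x ∈ E ↔ x * x = 1)
    {τ : H} (hτ : τ ∈ E) (hτ1 : τ ≠ 1)
    (hone : ∀ x ∈ E, x ≠ 1 → ∃ g : H, g * τ * g⁻¹ = x)
    (hidx : (centralizer ({τ} : Set H)).index = p) (hcardE : Nat.card E = p + 1) :
    Group.IsSolvable H := by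
  classical
  haveI : Fact (Nat.Prime 2) := ⟨Nat.prime_two⟩
  haveI : Fact p.Prime := ⟨hp⟩
  letI : CommGroup ↥E := { (inferInstance : Group ↥E) with
    mul_comm := fun a b => by
      have key : ∀ c : ↥E, c⁻¹ = c := fun c =>
        inv_eq_of_mul_eq_one_right (Subtype.ext ((hE _).1 c.2))
      calc a * b = (a * b)⁻¹ := (key _).symm
        _ = b * a := by rw [mul_inv_rev, key, key] }
  haveI hmod : Module (ZMod 2) (Additive ↥E) := AddCommGroup.zmodModule fun v =>
    (two_nsmul v).trans (congrArg Additive.ofMul (Subtype.ext ((hE _).1 (Additive.toMul v : ↥E).2)))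
  set n := Module.finrank (ZMod 2) (Additive ↥E) with hn
  have hcardn : p + 1 = 2 ^ n := by
    have h := Module.natCard_eq_pow_finrank (K := ZMod 2) (V := Additive ↥E)
    rw [Nat.card_zmod] at h
    rw [← hcardE]
    exact h
  have h3p : 3 ≤ p := lt_of_le_of_ne hp.two_le (Ne.symm hp2)
  have hn1 : n ≠ 1 := fun h => by rw [h, pow_one] at hcardn; omega
  have hn0 : n ≠ 0 := fun h => by rw [h, pow_zero] at hcardn; omega
  have hprime : (2 ^ n - 1).Prime := by rwa [← hcardn, Nat.add_sub_cancel]
  have hnp : n.Prime := (Nat.prime_of_pow_sub_one_prime hn1 hprime).2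
  -- the action
  let act : H →* (Additive ↥E ≃ₗ[ZMod 2] Additive ↥E) :=
    { toFun := fun h =>
        { toFun := fun v => Additive.ofMul (MulAut.conjNormal h (Additive.toMul v))
          map_add' := fun u v =>
            congrArg Additive.ofMul (map_mul (MulAut.conjNormal h : MulAut ↥E) _ _)
          map_smul' := fun r v => ZMod.map_smul
            (MonoidHom.toAdditive (MulAut.conjNormal h : MulAut ↥E).toMonoidHom) r v
          invFun := fun v => Additive.ofMul ((MulAut.conjNormal h : MulAut ↥E).symm (Additive.toMul v))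
          left_inv := fun v =>
            congrArg Additive.ofMul ((MulAut.conjNormal h : MulAut ↥E).symm_apply_apply _)
          right_inv := fun v =>
            congrArg Additive.ofMul ((MulAut.conjNormal h : MulAut ↥E).apply_symm_apply _) }
      map_one' := LinearEquiv.ext fun v => congrArg Additive.ofMul
        (by rw [map_one]; rfl)
      map_mul' := fun g h => LinearEquiv.ext fun v => congrArg Additive.ofMul
        (by rw [map_mul]; rfl) }
  have hact : ∀ (h : H) (e : ↥E),
      ((Additive.toMul (act h (Additive.ofMul e)) : ↥E) : H) = h * e * h⁻¹ := fun h e =>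
    MulAut.conjNormal_apply h e
  have hker : act.ker = centralizer (E : Set H) := by
    ext c
    rw [MonoidHom.mem_ker]
    constructor
    · intro hc e he
      have h := hact c ⟨e, he⟩
      rw [hc] at h
      have h' : e = c * e * c⁻¹ := h
      conv_lhs => rw [h']
      group
    · intro hc
      refine LinearEquiv.ext fun v => congrArg Additive.ofMul (Subtype.ext ?_)
      show ((MulAut.conjNormal c (Additive.toMul v) : ↥E) : H) = _
      rw [MulAut.conjNormal_apply, ← hc _ (Additive.toMul v : ↥E).2, mul_inv_cancel_right]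
      rfl
  set L := act.range with hL
  have htrans : ∀ v w : Additive ↥E, v ≠ 0 → w ≠ 0 → ∃ l ∈ L, l v = w := by
    intro v w hv hw
    have hne : ∀ u : Additive ↥E, u ≠ 0 → ((Additive.toMul u : ↥E) : H) ≠ 1 := fun u hu h =>
      hu (congrArg Additive.ofMul (Subtype.ext h : (Additive.toMul u : ↥E) = 1))
    obtain ⟨a, ha⟩ := hone _ (Additive.toMul v : ↥E).2 (hne v hv)
    obtain ⟨b, hb⟩ := hone _ (Additive.toMul w : ↥E).2 (hne w hw)
    refine ⟨act (b * a⁻¹), ⟨_, rfl⟩, congrArg Additive.ofMul (Subtype.ext ?_)⟩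
    show ((MulAut.conjNormal (b * a⁻¹) (Additive.toMul v) : ↥E) : H) = _
    rw [MulAut.conjNormal_apply, ← ha]
    refine Eq.trans ?_ hb
    group
  -- `L` is solvable
  have hLsolv : Group.IsSolvable ↥L := by
    rcases (Cfsg.Agent.S4179.result n rfl hprime L).1 htrans with ⟨-, h⟩ | ⟨h, -⟩ | h
    · exact Cfsg.Agent.S0144.result p n 1 0 hp hnp (by
        rw [h, ← hcardn, Nat.add_sub_cancel, pow_one, pow_zero, mul_one])
    · exact Cfsg.Agent.S0144.result n p 1 1 hnp hp (by
        rw [h, ← hcardn, Nat.add_sub_cancel, pow_one, pow_one])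
    rcases hnp.eq_two_or_odd' with hn2 | hnodd
    · haveI : Group.IsSolvable (Equiv.Perm (Additive ↥E)) := by
        refine Cfsg.Agent.S0144.result 2 3 3 1 Nat.prime_two Nat.prime_three ?_
        have h4 : Nat.card (Additive ↥E) = 4 := by
          show Nat.card ↥E = 4
          rw [hcardE, hcardn, hn2]; norm_num
        rw [Nat.card_perm, h4]
        rfl
      let f : ↥L →* Equiv.Perm (Additive ↥E) :=
        { toFun := fun l => l.1.toEquiv
          map_one' := rfl
          map_mul' := fun _ _ => rfl }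
      exact Group.isSolvable_of_isSolvable_injective (f := f) fun a b hab =>
        Subtype.ext (LinearEquiv.toEquiv_injective hab)
    · -- the full linear group is impossible
      exfalso
      obtain ⟨e⟩ : Nonempty ((Fin n → ZMod 2) ≃ₗ[ZMod 2] Additive ↥E) :=
        ⟨(Module.finBasis (ZMod 2) (Additive ↥E)).equivFun.symm⟩
      have h3 : 3 ≤ n := by
        obtain ⟨l, hl⟩ := hnodd
        omega
      let Dc : Cfg H (Fin n → ZMod 2) :=
        { ι := fun v => ((Additive.toMul (e v) : ↥E) : H)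
          map_add := fun u v => by rw [map_add]; rfl
          inj := fun u v huv => e.injective (congrArg Additive.ofMul (Subtype.ext huv))
          exp := fun v => funext fun i => CharTwo.add_self_eq_zero (v i)
          inv_mem := fun x hx => ⟨e.symm (Additive.ofMul ⟨x, (hE x).2 hx⟩), by
            rw [LinearEquiv.apply_symm_apply]; rfl⟩ }
      refine no_gl hnodd h3 Dc fun A => ?_
      let A' : Additive ↥E ≃ₗ[ZMod 2] Additive ↥E :=
        (e.symm.trans (A.toLinearEquiv fun r v => ZMod.map_smul A r v)).trans e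
      obtain ⟨g, hg⟩ : A' ∈ L := h ▸ Subgroup.mem_top A'
      refine ⟨g, fun v => ?_⟩
      show g * ((Additive.toMul (e v) : ↥E) : H) * g⁻¹ = ((Additive.toMul (e (A v)) : ↥E) : H)
      rw [← hact g]
      show ((Additive.toMul (act g (e v)) : ↥E) : H) = _
      rw [hg]
      show ((Additive.toMul (e (A (e.symm (e v)))) : ↥E) : H) = _
      rw [LinearEquiv.symm_apply_apply]
  -- an element of order `p` in `L`
  have hpL : p ∣ Nat.card L := by
    rw [← hidx, hL, ← Subgroup.index_ker, hker]
    exact index_dvd_of_le (centralizer_le (Set.singleton_subset_iff.2 hτ))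
  obtain ⟨⟨l, g, hgl⟩, hl⟩ := exists_prime_orderOf_dvd_card' p hpL
  replace hl : orderOf l = p := (Subgroup.orderOf_coe _).trans hl
  haveI hfinV : Finite (Additive ↥E) := inferInstance
  have horb : ∀ v w : Additive ↥E, v ≠ 0 → w ≠ 0 → ∃ i : ℤ, (l ^ i) v = w := by
    have hle : ∀ v : Additive ↥E, l v ≠ v →
        MulAction.orbit ↥(zpowers l) v = {u | u ≠ 0} := by
      intro v hv
      have hv0 : v ≠ 0 := fun h => hv (by rw [h, map_zero])
      have hsub : MulAction.orbit ↥(zpowers l) v ⊆ {u | u ≠ 0} := by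
        rintro u ⟨⟨x, hx⟩, rfl⟩
        show x v ≠ 0
        exact fun h => hv0 (x.injective (h.trans (map_zero x).symm))
      refine Set.eq_of_subset_of_ncard_le hsub ?_ (Set.toFinite _)
      have hdvd : (MulAction.orbit ↥(zpowers l) v).ncard ∣ p := by
        rw [← hl, ← Nat.card_zpowers, ← MulAction.index_stabilizer]
        exact index_dvd_card _
      rcases hp.eq_one_or_self_of_dvd _ hdvd with h | h
      · exfalso
        obtain ⟨a, ha⟩ := Set.ncard_eq_one.1 h
        have h1 : v ∈ MulAction.orbit ↥(zpowers l) v := MulAction.mem_orbit_self v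
        have h2 : l v ∈ MulAction.orbit ↥(zpowers l) v := ⟨⟨l, mem_zpowers l⟩, rfl⟩
        rw [ha, Set.mem_singleton_iff] at h1 h2
        exact hv (h2.trans h1.symm)
      · rw [h, show {u : Additive ↥E | u ≠ 0} = ({0} : Set (Additive ↥E))ᶜ from rfl,
          Set.ncard_compl, Set.ncard_singleton]
        show Nat.card ↥E - 1 ≤ p
        omega
    obtain ⟨v₀, hv₀⟩ : ∃ v, l v ≠ v := by
      by_contra! h
      have h1 : l = 1 := LinearEquiv.ext h
      rw [h1, orderOf_one] at hl
      exact hp.ne_one hl.symm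
    intro v w hv hw
    have hv' : v ∈ MulAction.orbit ↥(zpowers l) v₀ := by rw [hle v₀ hv₀]; exact hv
    have hw' : w ∈ MulAction.orbit ↥(zpowers l) v₀ := by rw [hle v₀ hv₀]; exact hw
    obtain ⟨⟨a, ha⟩, rfl⟩ := hv'
    obtain ⟨⟨b, hb⟩, rfl⟩ := hw'
    obtain ⟨i, rfl⟩ := mem_zpowers_iff.1 ha
    obtain ⟨j, rfl⟩ := mem_zpowers_iff.1 hb
    refine ⟨j - i, ?_⟩
    show (l ^ (j - i)) ((l ^ i) v₀) = (l ^ j) v₀
    rw [show (l ^ (j - i)) ((l ^ i) v₀) = (l ^ (j - i) * l ^ i) v₀ from rfl, ← zpow_add,
      sub_add_cancel]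
  haveI hC : Group.IsSolvable ↥(centralizer (E : Set H)) := by
    refine centralizer_solvable E (fun x hx => (hE x).2 hx) (fun e he => (hE e).1 he) hnp.two_le
      (hcardE.trans hcardn) g (fun e he e' he' h h' => ?_) hO
    obtain ⟨i, hi⟩ := horb (Additive.ofMul ⟨e, he⟩) (Additive.ofMul ⟨e', he'⟩)
      (fun h1 => h (congrArg Subtype.val (congrArg Additive.toMul h1)))
      (fun h1 => h' (congrArg Subtype.val (congrArg Additive.toMul h1)))
    refine ⟨i, ?_⟩
    rw [← hgl, ← map_zpow] at hi
    have h2 := hact (g ^ i) ⟨e, he⟩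
    rw [hi] at h2
    exact h2.symm
  haveI : Group.IsSolvable ↥L := hLsolv
  exact Group.isSolvable_of_ker_le_range (centralizer (E : Set H)).subtype act.rangeRestrict
    (by rw [MonoidHom.ker_rangeRestrict, hker, range_subtype])

/-- **Solvability.** -/
theorem isSolvable_of_pyramidal {p k : ℕ} (hp : p.Prime) (hp2 : p ≠ 2) (hk : 1 ≤ k)
    (hkk : Odd k ∨ p ^ k = 9) (G : Type*) [Group G] [Finite G]
    (hcard : Nat.card {x : G // orderOf x = 2} = p ^ k)
    (hone : ∀ x y : G, orderOf x = 2 → orderOf y = 2 → ∃ g : G, g * x * g⁻¹ = y) :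
    Group.IsSolvable G := by
  classical
  haveI : Fact (Nat.Prime 2) := ⟨Nat.prime_two⟩
  haveI : Fact p.Prime := ⟨hp⟩
  by_contra hns
  obtain ⟨⟨t, ht⟩⟩ : Nonempty {x : G // orderOf x = 2} :=
    (Nat.card_pos_iff.1 (hcard ▸ pow_pos hp.pos k)).1
  obtain ⟨ht2, -⟩ := orderOf_eq_two_iff'.1 ht
  set O := Cfsg.oddCore G with hO
  have hOodd : Odd (Nat.card O) := Nat.coprime_two_right.1 (PLocal.coprime_card_pPrimeCore 2 G)
  haveI : Group.IsSolvable O := Cfsg.Agent.S0205.result hOodd
  set π := QuotientGroup.mk' O with hπ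
  set τ := π t with hτdef
  have hHns : ¬ Group.IsSolvable (G ⧸ O) := fun h => hns
    (Group.isSolvable_of_ker_le_range O.subtype π (by rw [hπ, QuotientGroup.ker_mk', range_subtype]))
  have hHcore : Cfsg.oddCore (G ⧸ O) = ⊥ := PLocal.pPrimeCore_quotient_pPrimeCore_eq_bot 2 G
  -- involutions of the quotient
  have hτ1 : τ ≠ 1 := by
    intro h
    have hmem : t ∈ O := (QuotientGroup.eq_one_iff t).1 h
    have h2 := Subgroup.orderOf_dvd_natCard O hmem
    rw [ht] at h2
    exact (Nat.not_even_iff_odd.2 hOodd) (even_iff_two_dvd.2 h2)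
  have hlift : ∀ x : G ⧸ O, x * x = 1 → x ≠ 1 → ∃ g : G ⧸ O, g * τ * g⁻¹ = x := by
    intro x hx hx1
    obtain ⟨a, rfl⟩ := QuotientGroup.mk'_surjective O x
    obtain ⟨j, hj⟩ := hOodd
    have hmem : a * a ∈ O := (QuotientGroup.eq_one_iff _).1 hx
    have hsq : a ^ (2 * j + 1) * a ^ (2 * j + 1) = 1 := by
      rw [← (Commute.refl a).mul_pow, ← hj]
      exact orderOf_dvd_iff_pow_eq_one.1 (Subgroup.orderOf_dvd_natCard O hmem)
    have hpow : π (a ^ (2 * j + 1)) = π a := by
      rw [map_pow, pow_succ, pow_mul, sq, hx, one_pow, one_mul]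
    obtain ⟨c, hc⟩ := hone t _ ht (orderOf_eq_two_iff'.2 ⟨hsq, fun h => hx1 (by rw [← hpow, h, map_one])⟩)
    exact ⟨π c, by rw [← hpow, ← hc, map_mul, map_mul, map_inv]⟩
  have hidxG := index_eq_of_one_class ht hone
  rw [hcard] at hidxG
  obtain ⟨j, hjk, hidx⟩ : ∃ j, j ≤ k ∧ (centralizer ({τ} : Set (G ⧸ O))).index = p ^ j :=
    (Nat.dvd_prime_pow hp).1 (hidxG ▸ CfsgLib.PrimePowerClass.index_dvd_quotient O t)
  have hpcore : Cfsg.pCore p (G ⧸ O) = ⊥ := by
    rw [← le_bot_iff, ← hHcore]
    obtain ⟨b, hb⟩ := IsPGroup.iff_card.1 (PLocal.isPGroup_pCore p (G ⧸ O))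
    exact PLocal.le_pPrimeCore (by
      rw [hb]; exact Nat.Coprime.pow_left b ((Nat.coprime_primes hp Nat.prime_two).2 hp2))
  have hcommτ : ∀ g h : G ⧸ O, (g * τ * g⁻¹) * (h * τ * h⁻¹) = (h * τ * h⁻¹) * (g * τ * g⁻¹) := by
    intro g h
    have hmem := CfsgLib.PrimePowerClass.commutator_mem_pCore (p := p) ⟨j, hidx⟩ g h
    rw [hpcore, Subgroup.mem_bot, mul_inv_eq_one, mul_inv_eq_iff_eq_mul] at hmem
    exact hmem
  let E : Subgroup (G ⧸ O) :=
    { carrier := {x | x * x = 1}
      mul_mem' := by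
        intro a b ha hb
        show a * b * (a * b) = 1
        by_cases ha1 : a = 1
        · rw [ha1, one_mul]; exact hb
        by_cases hb1 : b = 1
        · rw [hb1, mul_one]; exact ha
        obtain ⟨g, hg⟩ := hlift a ha ha1
        obtain ⟨h, hh⟩ := hlift b hb hb1
        have hab : a * b = b * a := by rw [← hg, ← hh]; exact hcommτ g h
        calc a * b * (a * b) = a * (b * a) * b := by group
          _ = a * (a * b) * b := by rw [hab]
          _ = (a * a) * (b * b) := by group
          _ = 1 := by rw [show a * a = 1 from ha, show b * b = 1 from hb, one_mul]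
      one_mem' := one_mul 1
      inv_mem' := by
        intro a ha
        show a⁻¹ * a⁻¹ = 1
        rw [← mul_inv_rev, show a * a = 1 from ha, inv_one] }
  haveI : E.Normal := ⟨fun a ha g => by
    show g * a * g⁻¹ * (g * a * g⁻¹) = 1
    rw [conj_mul, show a * a = 1 from ha, mul_one, mul_inv_cancel]⟩
  have hτE : τ ∈ E := by show π t * π t = 1; rw [← map_mul, ht2, map_one]
  rcases Nat.eq_zero_or_pos j with hj0 | hj0
  · -- a unique involution
    rw [hj0, pow_zero, index_eq_one] at hidx
    have hcent : ∀ g : G ⧸ O, g * τ * g⁻¹ = τ := fun g => by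
      rw [mul_inv_eq_iff_eq_mul]
      exact mem_centralizer_singleton_iff.1 (hidx ▸ Subgroup.mem_top g)
    have hcore : ∀ x : G, orderOf x = 2 → t * x ∈ O := by
      intro x hx
      obtain ⟨c, rfl⟩ := hone t x ht hx
      refine (QuotientGroup.eq_one_iff _).1 ?_
      show π (t * (c * t * c⁻¹)) = 1
      rw [map_mul, map_mul, map_mul, map_inv, hcent, ← map_mul, ht2, map_one]
    obtain ⟨i, hki, h3⟩ := parity_case hp hp2 hcard ht hcore hns
    rcases hkk with hodd | h9
    · exact (Nat.not_even_iff_odd.2 hodd) ⟨i, by omega⟩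
    · have h33 : p = 3 := by
        have hdvd : p ∣ 3 ^ 2 := by rw [show (3 : ℕ) ^ 2 = 9 by norm_num, ← h9]; exact dvd_pow_self p (by omega)
        exact (Nat.prime_dvd_prime_iff_eq hp Nat.prime_three).1 (hp.dvd_of_dvd_pow hdvd)
      subst h33
      have hk2 : k = 2 := Nat.pow_right_injective (le_refl 2 |>.trans (by norm_num)) (h9.trans (by norm_num : 9 = 3 ^ 2))
      exact h3 rfl (by omega)
  · -- several involutions
    have hE2 : IsPGroup 2 E := fun a =>
      ⟨1, Subtype.ext (by show (a : G ⧸ O) ^ (2 ^ 1) = 1; rw [pow_one, sq]; exact a.2)⟩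
    obtain ⟨n, hn⟩ := IsPGroup.iff_card.1 hE2
    have hcardE : Nat.card E = p ^ j + 1 := by
      rw [← hidx, ← GroupBasics.card_carrier_eq_index_centralizer]
      have hset : (ConjClasses.mk τ).carrier = (E : Set (G ⧸ O)) \ {1} := by
        ext x
        rw [ConjClasses.mem_carrier_iff_mk_eq, ConjClasses.mk_eq_mk_iff_isConj, Set.mem_sdiff,
          Set.mem_singleton_iff, SetLike.mem_coe]
        constructor
        · intro h
          obtain ⟨c, rfl⟩ := isConj_iff.1 h.symm
          exact ⟨Subgroup.Normal.conj_mem inferInstance τ hτE c, fun h1 => hτ1 (conj_eq_one_iff.1 h1)⟩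
        · rintro ⟨hx, hx1⟩
          exact (isConj_iff.2 (hlift x hx hx1)).symm
      rw [hset, Set.ncard_sdiff_singleton_of_mem E.one_mem, ← Nat.card_coe_set_eq]
      have : 0 < Nat.card E := Nat.card_pos
      show Nat.card E = Nat.card E - 1 + 1
      omega
    have hj1 : j = 1 := eq_one_of_pow_add_one_eq hp hp2 (by omega) (hcardE.symm.trans hn)
    rw [hj1, pow_one] at hidx hcardE
    exact hHns (several_case hp hp2 hHcore E (fun x => Iff.rfl) hτE hτ1
      (fun x hx hx1 => hlift x hx hx1) hidx hcardE)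

end CfsgLib.Pyramidal
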