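import Cfsg.Agent.Pyramidal.Cfg
import Cfsg.Agent.Pyramidal.FormThree

/-!
# The action of `GL₃(2)` on an abelian quotient of the centraliser
-/

set_option autoImplicit false
set_option linter.unusedSectionVars false
set_option linter.style.haveILetI false

namespace CfsgLib.Pyramidal

open Subgroup Matrix

/-- A matrix as an automorphism of the natural module. -/
def matAut (A : M3ˣ) : V3 ≃+ V3 where
  toFun v := (A : M3) *ᵥ v
  invFun v := ((A⁻¹ : M3ˣ) : M3) *ᵥ v
  left_inv v := by show _ *ᵥ (_ *ᵥ v) = v; rw [Matrix.mulVec_mulVec, ← Units.val_mul, inv_mul_cancel, Units.val_one, Matrix.one_mulVec]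
  right_inv v := by show _ *ᵥ (_ *ᵥ v) = v; rw [Matrix.mulVec_mulVec, ← Units.val_mul, mul_inv_cancel, Units.val_one, Matrix.one_mulVec]
  map_add' u v := Matrix.mulVec_add _ u v

theorem matAut_apply (A : M3ˣ) (v : V3) : matAut A v = (A : M3) *ᵥ v := rfl

variable {H : Type*} [Group H] (D : Cfg H V3)

/-- `h` induces the matrix `A`. -/
def Cfg.Induces (h : H) (A : M3ˣ) : Prop := ∀ v, h * D.ι v * h⁻¹ = D.ι ((A : M3) *ᵥ v)

theorem Cfg.exists_induces (hlift : D.AllLift) (A : M3ˣ) : ∃ h, D.Induces h A :=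
  (hlift (matAut A)).imp fun _ hh v => hh v

theorem Cfg.induces_one : D.Induces 1 1 := fun v => by
  rw [one_mul, inv_one, mul_one, Units.val_one, Matrix.one_mulVec]

theorem Cfg.induces_mul {g h : H} {A B : M3ˣ} (hg : D.Induces g A) (hh : D.Induces h B) :
    D.Induces (g * h) (A * B) := fun v => by
  rw [Units.val_mul, ← Matrix.mulVec_mulVec, ← hg, ← hh]
  group

theorem Cfg.inv_mul_mem_cent {g h : H} {A : M3ˣ} (hg : D.Induces g A) (hh : D.Induces h A) :
    g⁻¹ * h ∈ D.cent := D.mem_cent_of_conj fun v => by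
  calc g⁻¹ * h * D.ι v * (g⁻¹ * h)⁻¹ = g⁻¹ * (h * D.ι v * h⁻¹) * g := by group
    _ = D.ι v := by rw [hh, ← hg]; group

/-- Lifts act on a characteristic quotient with abelian image. -/
theorem Cfg.exists_action (hlift : D.AllLift) (N : Subgroup D.cent) [N.Characteristic]
    (hcomm : ∀ c d : D.cent, (c * d)⁻¹ * (d * c) ∈ N) :
    ∃ ρ : M3ˣ →* AddMonoid.End (Additive (D.cent ⧸ N)), ∀ (A : M3ˣ) (h : H), D.Induces h A →
      ∀ c : D.cent, ρ A (Additive.ofMul (QuotientGroup.mk c : D.cent ⧸ N)) =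
        Additive.ofMul (QuotientGroup.mk (MulAut.conjNormal h c)) := by
  classical
  choose g hg using D.exists_induces hlift
  have hle : ∀ h : H, N ≤ N.comap (MulAut.conjNormal h : MulAut D.cent).toMonoidHom := fun h =>
    (Subgroup.Characteristic.fixed (H := N) inferInstance _).ge
  let f : M3ˣ → AddMonoid.End (Additive (D.cent ⧸ N)) := fun A =>
    MonoidHom.toAdditive (QuotientGroup.map N N (MulAut.conjNormal (g A) : MulAut D.cent).toMonoidHom (hle _))
  have key : ∀ (A : M3ˣ) (h : H), D.Induces h A → ∀ c : D.cent,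
      f A (Additive.ofMul (QuotientGroup.mk c : D.cent ⧸ N)) =
        Additive.ofMul (QuotientGroup.mk (MulAut.conjNormal h c)) := by
    intro A h hh c
    refine congrArg Additive.ofMul ?_
    show (QuotientGroup.mk (MulAut.conjNormal (g A) c) : D.cent ⧸ N) = _
    set k : D.cent := ⟨(g A)⁻¹ * h, D.inv_mul_mem_cent (hg A) hh⟩ with hk
    have h1 : MulAut.conjNormal h c = MulAut.conjNormal (g A) (k * c * k⁻¹) := Subtype.ext (by
      simp [MulAut.conjNormal_apply, hk, mul_assoc])
    rw [h1]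
    refine QuotientGroup.eq.2 ?_
    rw [← map_inv, ← map_mul]
    refine hle (g A) (?_ : c⁻¹ * (k * c * k⁻¹) ∈ N)
    rw [show c⁻¹ * (k * c * k⁻¹) = k * ((c * k)⁻¹ * (k * c)) * k⁻¹ by group]
    exact (Subgroup.normal_of_characteristic N).conj_mem _ (hcomm c k) _
  refine ⟨{ toFun := f, map_one' := ?_, map_mul' := fun A B => ?_ }, key⟩
  · refine AddMonoidHom.ext fun x => ?_
    obtain ⟨c, rfl⟩ : ∃ c : D.cent, Additive.ofMul (QuotientGroup.mk c : D.cent ⧸ N) = x :=
      QuotientGroup.mk_surjective x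
    refine (key 1 1 D.induces_one c).trans ?_
    rw [map_one]
    rfl
  · refine AddMonoidHom.ext fun x => ?_
    obtain ⟨c, rfl⟩ : ∃ c : D.cent, Additive.ofMul (QuotientGroup.mk c : D.cent ⧸ N) = x :=
      QuotientGroup.mk_surjective x
    refine (key (A * B) _ (D.induces_mul (hg A) (hg B)) c).trans ?_
    rw [map_mul]
    exact ((congrArg (f A) (key B _ (hg B) c)).trans (key A _ (hg A) _)).symm

end CfsgLib.Pyramidal
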